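import Cfsg.Agent.Lib.ClassSize3.Count

/-!
# Abelian centralisers and two class sizes

A group in which noncentral elements have abelian centralisers, each with two primes modulo the
centre, and only two class sizes greater than one, is solvable.
-/

set_option autoImplicit false
set_option linter.style.haveILetI false

namespace Cfsg.Lib.ClassSize3

open Subgroup
open scoped commutatorElement
open Cfsg.Lib.TwoSizes (PW)
open Cfsg.Lib.ClassNM

variable {G : Type*} [Group G]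

/-- A quotient with trivial commutators is solvable. -/
theorem isSolvable_of_commutator_le (K : Subgroup G) [K.Normal] (hK : Group.IsSolvable K)
    (hcomm : ∀ a b : G, ⁅a, b⁆ ∈ K) : Group.IsSolvable G := by
  haveI := hK
  haveI : Group.IsSolvable (G ⧸ K) := by
    letI : CommGroup (G ⧸ K) := { (inferInstance : Group (G ⧸ K)) with
      mul_comm := fun a b => by
        obtain ⟨a, rfl⟩ := QuotientGroup.mk_surjective a
        obtain ⟨b, rfl⟩ := QuotientGroup.mk_surjective b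
        rw [← QuotientGroup.mk_mul, ← QuotientGroup.mk_mul, QuotientGroup.eq]
        simpa [commutatorElement_def, mul_assoc] using hcomm b⁻¹ a⁻¹ }
    infer_instance
  exact Group.isSolvable_of_ker_le_range K.subtype (QuotientGroup.mk' K)
    (by rw [QuotientGroup.ker_mk', Subgroup.range_subtype])

variable [Finite G]

/-- Centralisers of equal index contain noncentral `r`-elements together. -/
theorem exists_nc_of_ind_eq {r : ℕ} [Fact r.Prime] {g u : G} (h : ind g = ind u)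
    (hu : ∃ w ∈ Cn u, PW r w ∧ w ∉ center G) : ∃ w ∈ Cn g, PW r w ∧ w ∉ center G := by
  by_contra hne
  obtain ⟨w, hw, hwr, hwZ⟩ := hu
  have h1 : ∀ a ∈ Cn g, PW r a → a ∈ center G := fun a ha har => by
    by_contra haZ; exact hne ⟨a, ha, har, haZ⟩
  refine hwZ (mem_center_of_fact hwr hw ?_)
  rw [← fact_eq_center h1]
  have := fact_ind g r
  have := fact_ind u r
  rw [h] at *
  omega

variable (hab : ∀ g : G, g ∉ center G → ∀ v ∈ Cn g, v ∉ center G → Cn v = Cn g)

include hab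

omit [Finite G] in
theorem trans_of_ab : Trans {r : ℕ | r.Prime} G := fun _ _ _ _ u v _ _ hu hv h => hab u hu v h hv

/-- A self-normalising centraliser gives solvability. -/
theorem isSolvable_of_self_normalizing {n n' : ℕ}
    (hcases : ∀ g : G, g ∉ center G → ind g = n ∨ ind g = n')
    {u₀ : G} (hu₀Z : u₀ ∉ center G) (hu₀ : ind u₀ = n)
    (hN : normalizer (Cn u₀ : Set G) ≤ Cn u₀) : Group.IsSolvable G := by
  classical
  have hT := trans_of_ab hab
  set C := Cn u₀ with hC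
  set P := {r : ℕ // r.Prime ∧ ∃ w ∈ C, PW r w ∧ w ∉ center G}
  have hcommC : ∀ a ∈ C, ∀ b ∈ C, Commute a b := by
    intro a ha b hb
    by_cases hbZ : b ∈ center G
    · exact mem_center_iff.mp hbZ a
    · exact mem_Cn.mp ((hab u₀ hu₀Z b hb hbZ).symm ▸ ha)
  have hnd : ∀ r : P, ¬ (r : ℕ) ∣ n := by
    intro r hrn
    haveI := Fact.mk r.2.1
    obtain ⟨w, hw, hwr, hwZ⟩ := r.2.2
    have hCw : Cn w = C := hab u₀ hu₀Z w hw hwZ
    have h1 := hT.dvd_relIndex (show (r : ℕ) ∈ {r : ℕ | r.Prime} from r.2.1) hwr hwZ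
      (by rw [← hu₀] at hrn; rw [ind, hCw]; exact hrn)
    rw [hCw, relIndex_eq_one.mpr hN] at h1
    exact r.2.1.ne_one (Nat.dvd_one.mp h1)
  have hker : ∀ r : P, ∃ K : Subgroup G, K.Normal ∧ (∀ a b : G, ⁅a, b⁆ ∈ K) ∧
      (∀ g ∈ K, PW (r : ℕ) g → g = 1) ∧ (∀ g : G, (orderOf g).Coprime r → g ∈ K) := by
    intro r
    haveI := Fact.mk r.2.1
    obtain ⟨w, hw, hwr, hwZ⟩ := r.2.2
    obtain ⟨R, hR⟩ := exists_sylow_le_Cn (p := (r : ℕ)) (x := u₀)
      (Nat.factorization_eq_zero_of_not_dvd (hu₀.symm ▸ hnd r))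
    obtain ⟨h, hh⟩ := exists_conj_mem (H := (R : Subgroup G)) (r := (r : ℕ))
      (le_of_eq (sylow_fact R).symm) hwr
    have hNR : normalizer ((R : Subgroup G) : Set G) ≤ centralizer ((R : Subgroup G) : Set G) := by
      intro g hg
      have hgC : g ∈ C := by
        refine hN ?_
        rw [mem_normalizer_iff_map_conj_eq]
        show C.map (MulAut.conj g).toMonoidHom = C
        have e1 := hab u₀ hu₀Z _ (hR hh) (conj_noncentral h hwZ)
        have e2 := hab u₀ hu₀Z _ (hR ((mem_normalizer_iff.mp hg _).mp hh))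
          (conj_noncentral g (conj_noncentral h hwZ))
        rw [Cn_conj (h * w * h⁻¹) g, e1] at e2
        exact e2
      exact mem_centralizer_iff.mpr fun a ha => (hcommC a (hR ha) g hgC).eq
    have hcompl := MonoidHom.ker_transferSylow_isComplement' R hNR
    set f := MonoidHom.transferSylow R hNR
    have hindex : f.ker.index = Nat.card (R : Subgroup G) := hcompl.symm.index_eq_card
    refine ⟨f.ker, inferInstance, fun a b => ?_, fun g hg hgr => ?_, fun g hg => ?_⟩
    · rw [MonoidHom.mem_ker, map_commutatorElement, commutatorElement_eq_one_iff_mul_comm]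
      exact Subtype.ext (hcommC _ (hR (f a).2) _ (hR (f b).2)).eq
    · have hcop : (Nat.card f.ker).Coprime r := by
        rw [← hcompl.index_eq_card]
        exact (r.2.1.coprime_iff_not_dvd.mpr R.not_dvd_index).symm
      obtain ⟨k, hk⟩ := hgr
      exact orderOf_eq_one_iff.mp (Nat.eq_one_of_dvd_coprimes (hcop.pow_right k)
        (Subgroup.orderOf_dvd_natCard _ hg) (orderOf_dvd_of_pow_eq_one hk))
    · rw [MonoidHom.mem_ker, ← orderOf_eq_one_iff]
      obtain ⟨k, hk⟩ := IsPGroup.iff_card.mp R.2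
      refine Nat.eq_one_of_dvd_coprimes (hg.pow_right k) (orderOf_map_dvd f g) ?_
      rw [← hk]
      exact orderOf_dvd_natCard (f g)
  choose Kf hKn hKc hK1 hKr using hker
  set K : Subgroup G := ⨅ r : P, Kf r with hK
  haveI hKnorm : K.Normal := normal_iInf_normal fun r => hKn r
  have hcomm : ∀ a b : G, ⁅a, b⁆ ∈ K := fun a b => mem_iInf.mpr fun r => hKc r a b
  refine isSolvable_of_commutator_le K ?_ hcomm
  refine isSolvable_of_regular_const (p := 2) (n := n' / (center G ⊔ K).index) Nat.prime_two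
    fun x _ hxZK => ?_
  have hxZ : (x : G) ∉ center G := fun h => hxZK (mem_center_iff.mpr fun a =>
    Subtype.ext (mem_center_iff.mp h a))
  have hne : ind (x : G) ≠ n := by
    intro he
    obtain ⟨t, ht, -, u, hu, hut, huZ⟩ := exists_nc_part hxZ
    haveI := Fact.mk ht
    have h1 : ∃ w ∈ C, PW t w ∧ w ∉ center G := exists_nc_of_ind_eq (g := u₀) (u := (x : G))
      (hu₀.trans he.symm) ⟨u, (zpowers_le.mpr (mem_Cn_self _)) hu, hut, huZ⟩
    have hur := hK1 ⟨t, ht, h1⟩ u (mem_iInf.mp ((zpowers_le.mpr x.2) hu) ⟨t, ht, h1⟩) hut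
    exact huZ (hur ▸ one_mem _)
  have hxn : ind (x : G) = n' := (hcases _ hxZ).resolve_left hne
  set Cx := Cn (x : G)
  have hle : Cx ≤ center G ⊔ K := by
    refine le_of_parts fun t ht g hg hgt => ?_
    by_cases hgZ : g ∈ center G
    · exact mem_sup_left hgZ
    refine mem_sup_right (mem_iInf.mpr fun r => hKr r g (hgt.reg ht r.2.1 ?_))
    rintro rfl
    haveI := Fact.mk r.2.1
    obtain ⟨w, hw, hwr, hwZ⟩ := r.2.2
    obtain ⟨h, hh⟩ := hT.exists_conj_eq (show (r : ℕ) ∈ {r : ℕ | r.Prime} from r.2.1) hwr hwZ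
      (by have h0 := hnd r; rw [← hu₀] at h0; rw [ind, hab u₀ hu₀Z w hw hwZ]; exact h0) hgt hgZ
    refine hne ?_
    rw [ind, ← hab _ hxZ g hg hgZ, ← ind, ← ind_conj g h, ind, hh, hab u₀ hu₀Z w hw hwZ]
    exact hu₀
  have hsup : Cx ⊔ K = center G ⊔ K := le_antisymm (sup_le hle le_sup_right)
    (sup_le ((center_le_Cn _).trans le_sup_left) le_sup_right)
  have hrel : Cx.relIndex (Cx ⊔ K) = Cx.relIndex K := by
    have a1 := relIndex_mul_relIndex ⊥ K (Cx ⊔ K) bot_le le_sup_right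
    have a2 := relIndex_mul_relIndex ⊥ Cx (Cx ⊔ K) bot_le le_sup_left
    have a3 := relIndex_mul_relIndex ⊥ (Cx ⊓ K) Cx bot_le inf_le_left
    have a4 := relIndex_mul_relIndex ⊥ (Cx ⊓ K) K bot_le inf_le_right
    rw [relIndex_bot_left, relIndex_bot_left] at a1 a2 a3 a4
    rw [relIndex_sup_right (H := Cx) K] at a1
    rw [inf_relIndex_left] at a3
    rw [inf_relIndex_right] at a4
    rw [← a1, ← a4] at a2
    rw [← a3] at a2
    have hpos : 0 < Nat.card (Cx ⊓ K : Subgroup G) * K.relIndex Cx := by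
      rw [a3]; exact Nat.card_pos
    exact Nat.eq_of_mul_eq_mul_left hpos (a2.trans (by ring))
  have h3 := relIndex_mul_index (le_sup_left : Cx ≤ Cx ⊔ K)
  rw [hrel, hsup] at h3
  show (Cn x).index = _
  rw [index_Cn_coe, ← hxn, show ind (x : G) = Cx.index from rfl, ← h3,
    Nat.mul_div_cancel _ (Nat.pos_of_ne_zero index_ne_zero_of_finite)]

/-- The centralisers of one class size are covered by few conjugates. -/
theorem exists_family {n n' : ℕ} (hcases : ∀ g : G, g ∉ center G → ind g = n ∨ ind g = n')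
    (hmix : ∀ g : G, g ∉ center G → ∀ t : ℕ, ∃ s : ℕ, s.Prime ∧ s ≠ t ∧
      ∃ w ∈ Cn g, PW s w ∧ w ∉ center G) :
    Group.IsSolvable G ∨ ∃ (ι : Type) (_ : Fintype ι) (f : ι → G), (∀ i, f i ∉ center G) ∧
      (∀ g : G, g ∉ center G → ind g = n → ∃ i, ∃ h : G, h * g * h⁻¹ ∈ Cn (f i)) ∧
      2 * weight (fun i => Cn (f i)) ≤ Nat.card G := by
  classical
  have hT := trans_of_ab hab
  by_cases hex : ∃ g : G, g ∉ center G ∧ ind g = n
  swap
  · exact Or.inr ⟨Empty, inferInstance, Empty.elim, fun i => i.elim,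
      fun g hg hn => absurd ⟨g, hg, hn⟩ hex, by simp [weight]⟩
  obtain ⟨g₀, hg₀, hn₀⟩ := hex
  have hall : ∀ {r : ℕ} [Fact r.Prime] {g : G}, ind g = n →
      (∃ w ∈ Cn g₀, PW r w ∧ w ∉ center G) → ∃ w ∈ Cn g, PW r w ∧ w ∉ center G :=
    fun hg hw => exists_nc_of_ind_eq (hg.trans hn₀.symm) hw
  by_cases hsingle : ∃ r : ℕ, r.Prime ∧ ¬ r ∣ n ∧ ∃ w ∈ Cn g₀, PW r w ∧ w ∉ center G
  · obtain ⟨r, hr, hrn, hw⟩ := hsingle
    haveI := Fact.mk hr
    obtain ⟨w₀, hw₀, hw₀r, hw₀Z⟩ := hw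
    have hC : Cn w₀ = Cn g₀ := hab g₀ hg₀ w₀ hw₀ hw₀Z
    have hind : ind w₀ = n := by rw [ind, hC]; exact hn₀
    by_cases hk : 2 ≤ (Cn w₀).relIndex (normalizer (Cn w₀ : Set G))
    · refine Or.inr ⟨Unit, inferInstance, fun _ => w₀, fun _ => hw₀Z, fun g hg hgn => ?_, ?_⟩
      · obtain ⟨w, hw, hwr, hwZ⟩ := hall hgn ⟨w₀, hw₀, hw₀r, hw₀Z⟩
        obtain ⟨h, hh⟩ := hT.exists_conj_eq (show r ∈ {r : ℕ | r.Prime} from hr) hw₀r hw₀Z
          (hind.symm ▸ hrn) hwr hwZ
        exact ⟨(), h, hh ▸ mem_Cn_conj h (mem_Cn_comm.mp (mem_Cn.mpr (mem_Cn.mp hw)))⟩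
      · simpa using mul_weight_le (fun _ : Unit => Cn w₀) (K := 2) fun _ => hk
    · refine Or.inl (isSolvable_of_self_normalizing hab hcases hw₀Z hind ?_)
      refine relIndex_eq_one.mp ?_
      have : (Cn w₀).relIndex (normalizer (Cn w₀ : Set G)) ≠ 0 := index_ne_zero_of_finite
      omega
  push Not at hsingle
  have hdvdn : ∀ r : ℕ, r.Prime → (∃ w ∈ Cn g₀, PW r w ∧ w ∉ center G) → r ∣ n := by
    rintro r hr ⟨w, hw, hwr, hwZ⟩
    by_contra hrn
    exact hwZ (hsingle r hr hrn w hw hwr)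
  obtain ⟨q, q', hq, hq', hlt, hwq, hwq'⟩ : ∃ q q' : ℕ, q.Prime ∧ q'.Prime ∧ q < q' ∧
      (∃ w ∈ Cn g₀, PW q w ∧ w ∉ center G) ∧ ∃ w ∈ Cn g₀, PW q' w ∧ w ∉ center G := by
    obtain ⟨a, ha, -, hwa⟩ := hmix g₀ hg₀ 0
    obtain ⟨b, hb, hba, hwb⟩ := hmix g₀ hg₀ a
    rcases Nat.lt_or_gt_of_ne hba with h | h
    · exact ⟨b, a, hb, ha, h, hwb, hwa⟩
    · exact ⟨a, b, ha, hb, h, hwa, hwb⟩
  haveI := Fact.mk hq
  haveI := Fact.mk hq'
  have hdvd : ∀ u : G, PW q u → u ∉ center G → q ∣ ind u := by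
    intro u hu huZ
    by_contra hnd
    obtain ⟨w, hw, hwr, hwZ⟩ := hwq
    obtain ⟨h, hh⟩ := hT.exists_conj_eq (show q ∈ {r : ℕ | r.Prime} from hq) hu huZ hnd hwr hwZ
    refine hnd ?_
    rw [ind, ← hh, ← ind, ind_conj, ind, hab g₀ hg₀ w hw hwZ, ← ind, hn₀]
    exact hdvdn q hq ⟨w, hw, hwr, hwZ⟩
  obtain ⟨f, hf, hcov⟩ := hT.exists_list (show q ∈ {r : ℕ | r.Prime} from hq)
    (by obtain ⟨w, -, hw⟩ := hwq; exact ⟨w, hw⟩) hdvd fun u _ huZ => by
      obtain ⟨r, hr, hrq, hw⟩ := hmix u huZ q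
      exact ⟨r, hr, hrq, hr, hw⟩
  refine Or.inr ⟨{i : Fin (q + 1) // ind (f i) = n}, inferInstance, fun i => f i,
    fun i => (hf i).2, fun g hg hgn => ?_, ?_⟩
  · obtain ⟨w, hw, hwr, hwZ⟩ := hall hgn hwq
    obtain ⟨i, h, hh⟩ := hcov w hwr hwZ
    have hi : ind (f i) = n := by
      rw [ind, ← hh, ← ind, ind_conj, ind, hab g hg w hw hwZ]
      exact hgn
    exact ⟨⟨i, hi⟩, h, hh ▸ mem_Cn_conj h (mem_Cn_comm.mp hw)⟩
  · set W := weight (fun i : {i : Fin (q + 1) // ind (f i) = n} => Cn (f i))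
    have hK : q * q' * W ≤ Fintype.card {i : Fin (q + 1) // ind (f i) = n} * Nat.card G := by
      refine mul_weight_le _ fun i => Nat.le_of_dvd (Nat.pos_of_ne_zero index_ne_zero_of_finite) ?_
      refine ((Nat.coprime_primes hq hq').mpr hlt.ne).mul_dvd_of_dvd_of_dvd
        (hT.dvd_relIndex (show q ∈ {r : ℕ | r.Prime} from hq) (hf i).1 (hf i).2
          (hdvd _ (hf i).1 (hf i).2)) ?_
      obtain ⟨w, hw, hwr, hwZ⟩ := hall i.2 hwq'
      rw [← hab _ (hf i).2 w hw hwZ]
      refine hT.dvd_relIndex (show q' ∈ {r : ℕ | r.Prime} from hq') hwr hwZ ?_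
      rw [ind, hab _ (hf i).2 w hw hwZ, ← ind, i.2]
      exact hdvdn q' hq' hwq'
    have hcard : Fintype.card {i : Fin (q + 1) // ind (f i) = n} ≤ q + 1 :=
      (Fintype.card_subtype_le _).trans_eq (Fintype.card_fin _)
    have h2 : 2 * (q + 1) ≤ q * q' := by
      have := hq.two_le
      nlinarith
    have hqq : 0 < q * q' := Nat.mul_pos hq.pos hq'.pos
    refine Nat.le_of_mul_le_mul_left ?_ hqq
    calc q * q' * (2 * W) = 2 * (q * q' * W) := by ring
      _ ≤ 2 * ((q + 1) * Nat.card G) := by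
          exact Nat.mul_le_mul_left _ (hK.trans (Nat.mul_le_mul_right _ hcard))
      _ ≤ q * q' * Nat.card G := by
          rw [← mul_assoc]; exact Nat.mul_le_mul_right _ h2

/-- Abelian centralisers with two primes each and two class sizes give solvability. -/
theorem isSolvable_of_abelian_two {n n' : ℕ}
    (hcases : ∀ g : G, g ∉ center G → ind g = n ∨ ind g = n')
    (hmix : ∀ g : G, g ∉ center G → ∀ t : ℕ, ∃ s : ℕ, s.Prime ∧ s ≠ t ∧
      ∃ w ∈ Cn g, PW s w ∧ w ∉ center G) : Group.IsSolvable G := by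
  classical
  by_cases hG : center G = ⊤
  · refine isSolvable_of_commutator_le (center G) ?_ fun a b => hG.symm ▸ mem_top _
    letI : CommGroup (center G) := { (inferInstance : Group (center G)) with
      mul_comm := fun a b => Subtype.ext ((mem_center_iff.1 b.2) a) }
    infer_instance
  rcases exists_family hab hcases hmix with h | ⟨ι, _, f, hf, hcov, hw⟩
  · exact h
  rcases exists_family hab (n := n') (n' := n) (fun g hg => (hcases g hg).symm) hmix with
    h | ⟨κ, _, f', hf', hcov', hw'⟩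
  · exact h
  obtain ⟨i, hi⟩ := exists_eq_top (Sum.elim (fun i => Cn (f i)) (fun i => Cn (f' i)))
    (fun i => by rcases i with i | i <;> exact center_le_Cn _) hG
    (fun g hg => by
      rcases hcases g hg with h | h
      · obtain ⟨i, hh⟩ := hcov g hg h; exact ⟨Sum.inl i, hh⟩
      · obtain ⟨i, hh⟩ := hcov' g hg h; exact ⟨Sum.inr i, hh⟩)
    (by rw [weight_sum]; omega)
  exfalso
  rcases i with i | i
  · exact hf i (ind_eq_one_iff.mp (index_eq_one.mpr hi))
  · exact hf' i (ind_eq_one_iff.mp (index_eq_one.mpr hi))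

end Cfsg.Lib.ClassSize3
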