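import Cfsg.Agent.Lib.ClassNM.Basic
import Cfsg.Agent.Lib.Kazarin.Basic
import Cfsg.Agent.S4033
import Cfsg.Agent.S0564

/-!
# Covering a group by conjugates of centralisers

If the conjugates of finitely many subgroups containing the centre cover the group and the sum of the
reciprocals of their relative indices in their normalisers is at most one, one of them is everything.
Also: constant class size on `p`-regular noncentral elements implies solvability.
-/

set_option autoImplicit false
set_option linter.style.haveILetI false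
set_option linter.unusedSectionVars false

namespace Cfsg.Lib.ClassSize3

open Subgroup Finset
open scoped commutatorElement
open Cfsg.Lib.TwoSizes (PW)
open Cfsg.Lib.ClassNM

variable {G : Type*} [Group G]

theorem isSolvable_of_center (h : Group.IsSolvable (G ⧸ center G)) : Group.IsSolvable G := by
  haveI := h
  haveI : IsMulCommutative (center G) := inferInstance
  haveI : Group.IsSolvable (center G) := by
    letI : CommGroup (center G) := { (inferInstance : Group (center G)) with
      mul_comm := fun a b => Subtype.ext ((mem_center_iff.1 b.2) a) }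
    infer_instance
  exact Group.isSolvable_of_ker_le_range (center G).subtype (QuotientGroup.mk' (center G))
    (by rw [QuotientGroup.ker_mk', Subgroup.range_subtype])

/-- A noncentral element has a noncentral part of prime-power order. -/
theorem exists_nc_part [Finite G] {g : G} (hg : g ∉ center G) :
    ∃ r : ℕ, r.Prime ∧ r ∣ orderOf g ∧ ∃ u ∈ zpowers g, PW r u ∧ u ∉ center G := by
  by_contra hne
  refine hg (TwoSizes.mem_of_parts fun t ht htn i hi => ?_)
  by_contra hi'
  exact hne ⟨t, ht, htn, g ^ i, pow_mem (mem_zpowers g) i, hi, hi'⟩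

theorem Cn_le_of_mem_zpowers {g u : G} (h : u ∈ zpowers g) : Cn g ≤ Cn u :=
  TwoSizes.cent_mono_of_mem_zpowers h

theorem mem_Cn_self (g : G) : g ∈ Cn g := mem_Cn.mpr (Commute.refl g)

theorem Cn_conj (x g : G) : Cn (g * x * g⁻¹) = (Cn x).map (MulAut.conj g).toMonoidHom := by
  ext y
  constructor
  · intro hy
    refine ⟨g⁻¹ * y * g, ?_, by simp [mul_assoc]⟩
    have := mem_Cn_conj g⁻¹ hy
    simpa [mul_assoc] using this
  · rintro ⟨z, hz, rfl⟩
    exact mem_Cn_conj g hz

theorem Cn_mul_center {x z : G} (hz : z ∈ center G) : Cn (z * x) = Cn x := by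
  ext g
  rw [mem_Cn, mem_Cn]
  have hgz : Commute g z := mem_center_iff.mp hz g
  refine ⟨fun h => ?_, fun h => hgz.mul_right h⟩
  simpa using (hgz.inv_right).mul_right h

theorem noncentral_of_Cn_eq [Finite G] {u v : G} (h : Cn v = Cn u) (hu : u ∉ center G) :
    v ∉ center G := fun hv => hu (ind_eq_one_iff.mp (by
  show (Cn u).index = 1
  rw [← h]; exact ind_eq_one_iff.mpr hv))

section Cover

variable [Finite G] {ι : Type*} [Fintype ι] (C : ι → Subgroup G)

/-- The weighted number of elements covered by the conjugates of a family of subgroups. -/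
noncomputable def weight : ℕ :=
  ∑ i, (normalizer (C i : Set G)).index * Nat.card (C i)

/-- A covering of weight at most the group order uses the whole group. -/
theorem exists_eq_top (hZ : ∀ i, center G ≤ C i) (hG : center G ≠ ⊤)
    (hcov : ∀ g : G, g ∉ center G → ∃ i, ∃ h : G, h * g * h⁻¹ ∈ C i)
    (hw : weight C ≤ Nat.card G) : ∃ i, C i = ⊤ := by
  classical
  haveI := Fintype.ofFinite G
  set T := (Σ i, (G ⧸ normalizer (C i : Set G)) × {c : G // c ∈ C i ∧ c ∉ center G}) with hT
  let f : T → G := fun t => t.2.1.out * (t.2.2 : G) * t.2.1.out⁻¹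
  have hsurj : ∀ g : {g : G // g ∉ center G}, ∃ t : T, f t = g := by
    rintro ⟨g, hg⟩
    obtain ⟨i, h, hh⟩ := hcov g hg
    set o := (QuotientGroup.mk h⁻¹ : G ⧸ normalizer (C i : Set G)).out with ho
    obtain ⟨n, hn⟩ := QuotientGroup.mk_out_eq_mul (normalizer (C i : Set G)) h⁻¹
    have hmem : (o⁻¹ * g * o) ∈ C i := by
      rw [ho, hn]
      have h2 := (mem_normalizer_iff.mp (inv_mem n.2) _).mp hh
      simpa [mul_assoc] using h2
    have hnc : o⁻¹ * g * o ∉ center G := fun hc => hg (by
      have := (inferInstance : (center G).Normal).conj_mem _ hc o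
      simpa [mul_assoc] using this)
    exact ⟨⟨i, QuotientGroup.mk h⁻¹, o⁻¹ * g * o, hmem, hnc⟩, by simp [f, ← ho, mul_assoc]⟩
  choose s hs using hsurj
  have hle : Nat.card {g : G // g ∉ center G} ≤ Nat.card T :=
    Nat.card_le_card_of_injective s fun a b hab => Subtype.ext (by rw [← hs a, ← hs b, hab])
  have hc1 : Nat.card {g : G // g ∉ center G} = Nat.card G - Nat.card (center G) := by
    rw [Nat.card_eq_fintype_card, Nat.card_eq_fintype_card, Fintype.card_subtype_compl,
      Nat.card_eq_fintype_card]
  have hc2 : ∀ i, Nat.card {c : G // c ∈ C i ∧ c ∉ center G} + Nat.card (center G) = Nat.card (C i) := by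
    intro i
    have e1 : Nat.card {c : G // c ∈ C i ∧ c ∉ center G} =
        Nat.card {c : C i // (c : G) ∉ center G} :=
      Nat.card_congr ((Equiv.subtypeSubtypeEquivSubtypeInter (fun c => c ∈ C i)
        (fun c => c ∉ center G)).symm)
    have e2 : Nat.card (center G) = Nat.card {c : C i // (c : G) ∈ center G} :=
      Nat.card_congr
        { toFun := fun z => ⟨⟨z, hZ i z.2⟩, z.2⟩
          invFun := fun c => ⟨c.1, c.2⟩
          left_inv := fun _ => rfl
          right_inv := fun _ => rfl }
    rw [e1, e2, ← Nat.card_sum, Nat.card_congr ((Equiv.sumComm _ _).trans (Equiv.sumCompl _))]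
  have hTc : Nat.card T + Nat.card (center G) * ∑ i, (normalizer (C i : Set G)).index =
      weight C := by
    rw [hT, Nat.card_sigma, weight, mul_sum, ← sum_add_distrib]
    refine sum_congr rfl fun i _ => ?_
    rw [Nat.card_prod, ← hc2 i, mul_add, mul_comm (Nat.card (center G))]
    rfl
  have hζ : Nat.card (center G) < Nat.card G := by
    refine lt_of_le_of_ne (Subgroup.card_le_card_group _) fun e => hG (eq_top_of_card_eq _ e)
  have hζ0 : 0 < Nat.card (center G) := Nat.card_pos
  have hsum : ∑ i, (normalizer (C i : Set G)).index ≤ 1 := by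
    by_contra hgt
    have h2 : Nat.card (center G) * 2 ≤ Nat.card (center G) * ∑ i, (normalizer (C i : Set G)).index :=
      Nat.mul_le_mul_left _ (by omega)
    omega
  have hne : ∀ i, 1 ≤ (normalizer (C i : Set G)).index := fun i =>
    Nat.pos_of_ne_zero index_ne_zero_of_finite
  obtain ⟨g₀, hg₀⟩ : ∃ g : G, g ∉ center G := by
    by_contra! hall
    exact hG (eq_top_iff.mpr fun g _ => hall g)
  obtain ⟨i, -, -⟩ := hcov g₀ hg₀
  have huniq : ∀ j, j = i := by
    intro j
    by_contra hji
    have h1 := Finset.add_le_sum (fun k _ => Nat.zero_le ((normalizer (C k : Set G)).index))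
      (Finset.mem_univ j) (Finset.mem_univ i) hji
    have := hne i
    have := hne j
    omega
  have htop : normalizer (C i : Set G) = ⊤ := index_eq_one.mp (by
    have h1 := Finset.single_le_sum (fun k _ => Nat.zero_le ((normalizer (C k : Set G)).index))
      (Finset.mem_univ i)
    have := hne i
    omega)
  refine ⟨i, eq_top_iff.mpr fun g _ => ?_⟩
  by_cases hg : g ∈ center G
  · exact hZ i hg
  obtain ⟨j, h, hh⟩ := hcov g hg
  obtain rfl := huniq j
  exact (mem_normalizer_iff.mp (htop ▸ mem_top h : h ∈ normalizer (C j : Set G)) g).mpr hh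

/-- Bound for the weight of a family with large relative normaliser indices. -/
theorem mul_weight_le {K : ℕ} (hK : ∀ i, K ≤ (C i).relIndex (normalizer (C i : Set G))) :
    K * weight C ≤ Fintype.card ι * Nat.card G := by
  rw [weight, mul_sum, ← smul_eq_mul, ← Finset.card_univ, ← Finset.sum_const]
  refine sum_le_sum fun i _ => ?_
  calc K * ((normalizer (C i : Set G)).index * Nat.card (C i))
      ≤ (C i).relIndex (normalizer (C i : Set G)) * ((normalizer (C i : Set G)).index * Nat.card (C i)) :=
        Nat.mul_le_mul_right _ (hK i)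
    _ = Nat.card G := by
        rw [← mul_assoc, relIndex_mul_index le_normalizer, index_mul_card]

theorem weight_sum {κ : Type*} [Fintype κ] (D : κ → Subgroup G) :
    weight (Sum.elim C D) = weight C + weight D := by
  simp [weight, Fintype.sum_sum_type]

end Cover

/-- A Sylow subgroup whose prime divides no class size is central. -/
theorem sylow_le_center_of_forall [Finite G] {r : ℕ} [Fact r.Prime]
    (h : ∀ g : G, ¬ r ∣ ind g) (R : Sylow r G) : (R : Subgroup G) ≤ center G := by
  classical
  by_contra hne
  have hG : center G ≠ ⊤ := fun e => hne (e ▸ le_top)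
  obtain ⟨-, hi⟩ := exists_eq_top (fun _ : Unit => centralizer ((R : Subgroup G) : Set G))
    (fun _ => center_le_centralizer _) hG (fun g _ => by
      obtain ⟨P, hP⟩ := exists_sylow_le_Cn (p := r) (x := g)
        (Nat.factorization_eq_zero_of_not_dvd (h g))
      obtain ⟨t, ht⟩ := MulAction.exists_smul_eq G P R
      refine ⟨(), t, mem_centralizer_iff.mpr fun a ha => ?_⟩
      rw [← ht, Sylow.coe_subgroup_smul] at ha
      obtain ⟨b, hb, rfl⟩ := ha
      exact ((mem_Cn.mp (hP hb)).map (MulAut.conj t).toMonoidHom).eq)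
    (by
      rw [weight, Finset.sum_const, Finset.card_univ, Fintype.card_unit, one_smul]
      set C := centralizer ((R : Subgroup G) : Set G)
      calc (normalizer (C : Set G)).index * Nat.card C
          ≤ C.index * Nat.card C := Nat.mul_le_mul_right _
            (Nat.le_of_dvd (Nat.pos_of_ne_zero index_ne_zero_of_finite)
              (index_dvd_of_le le_normalizer))
        _ = Nat.card G := C.index_mul_card)
  exact hne fun a ha => mem_center_iff.mpr fun g =>
    ((mem_centralizer_iff.mp (hi.ge (mem_top g))) a ha).symm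

/-- If all noncentral `p`-regular elements have the same class size, the group is solvable. -/
theorem isSolvable_of_regular_const [Finite G] {p n : ℕ} (hp : p.Prime)
    (h : ∀ x : G, (orderOf x).Coprime p → x ∉ center G → ind x = n) : Group.IsSolvable G := by
  classical
  haveI := Fact.mk hp
  by_cases hne : ∃ x : G, (orderOf x).Coprime p ∧ x ∉ center G
  · obtain ⟨x₀, hx₀, hx₀Z⟩ := hne
    have hn1 : n ≠ 1 := fun e => hx₀Z (ind_eq_one_iff.mp ((h x₀ hx₀ hx₀Z).trans e))
    have h2 : Set.ncard (Set.range fun v : {v : G // (orderOf v).Coprime p} =>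
        (ConjClasses.mk (v : G)).carrier.ncard) = 2 := by
      have he : (Set.range fun v : {v : G // (orderOf v).Coprime p} =>
          (ConjClasses.mk (v : G)).carrier.ncard) = {1, n} := by
        ext k
        simp only [Set.mem_range, Cfsg.Agent.S4035.carrier_ncard_eq_index, Set.mem_insert_iff,
          Set.mem_singleton_iff]
        constructor
        · rintro ⟨⟨v, hv⟩, rfl⟩
          by_cases hvZ : v ∈ center G
          · exact Or.inl (ind_eq_one_iff.mpr hvZ)
          · exact Or.inr (h v hv hvZ)
        · rintro (rfl | rfl)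
          · exact ⟨⟨1, by simp⟩, ind_eq_one_iff.mpr (one_mem _)⟩
          · exact ⟨⟨x₀, hx₀⟩, h x₀ hx₀ hx₀Z⟩
      rw [he, Set.ncard_pair (Ne.symm hn1)]
    rcases Cfsg.Agent.S4033.result hp h2 with ⟨H, hH, hHp, k, hk⟩ |
      ⟨q, hq, P, Q, A, hqp, hAZ, hcard, hN, -, hsup⟩
    · obtain ⟨P⟩ : Nonempty (Sylow p G) := inferInstance
      haveI : Group.IsNilpotent (P : Subgroup G) := P.2.isNilpotent
      haveI := hH
      haveI : Group.IsNilpotent H := by
        letI : CommGroup H := { (inferInstance : Group H) with mul_comm := fun a b => Std.Commutative.comm a b }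
        exact CommGroup.isNilpotent
      have hP := IsPGroup.iff_card.mp P.2
      obtain ⟨j, hj⟩ := hP
      have hcop : (Nat.card H).Coprime (Nat.card (P : Subgroup G)) := by
        rw [hj]; exact ((hp.coprime_iff_not_dvd.mpr hHp).symm).pow_right j
      have hmul : Nat.card H * Nat.card (P : Subgroup G) = Nat.card G := by
        have h1 := H.index_mul_card
        rw [hk] at h1
        have h2 : Nat.card (P : Subgroup G) = p ^ k := by
          rw [P.card_eq_multiplicity, ← h1, Nat.factorization_mul (pow_ne_zero k hp.ne_zero)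
            Nat.card_pos.ne', Finsupp.add_apply, hp.factorization_pow, Finsupp.single_eq_same,
            Nat.factorization_eq_zero_of_not_dvd hHp, add_zero]
        rw [h2, ← h1, mul_comm]
      have hc := Subgroup.isComplement'_of_coprime hmul hcop
      refine Cfsg.Agent.S0564.result H P inferInstance inferInstance fun g => ?_
      obtain ⟨⟨a, b⟩, hab, -⟩ := Subgroup.IsComplement.existsUnique hc g
      exact ⟨a, a.2, b, b.2, hab.symm⟩
    · haveI := hN
      set M : Subgroup G := (P : Subgroup G) ⊔ (Q : Subgroup G)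
      haveI : Group.IsSolvable M := by
        by_contra hns
        obtain ⟨r, hr, hrp, hrq, hrd⟩ := Kazarin.exists_third_prime hns hp hq.out
        obtain ⟨i, hi⟩ := IsPGroup.iff_card.mp P.2
        obtain ⟨j, hj⟩ := IsPGroup.iff_card.mp Q.2
        rw [hcard, hi, hj] at hrd
        rcases hr.dvd_mul.mp hrd with e | e
        · exact hrp ((Nat.prime_dvd_prime_iff_eq hr hp).mp (hr.dvd_of_dvd_pow e))
        · exact hrq ((Nat.prime_dvd_prime_iff_eq hr hq.out).mp (hr.dvd_of_dvd_pow e))
      have hcomm : commutator G ≤ M := by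
        rw [commutator_def, Subgroup.commutator_le]
        intro a _ b _
        obtain ⟨a₁, ha₁, a₂, ha₂, rfl⟩ : ∃ a₁ ∈ M, ∃ a₂ ∈ A, a₁ * a₂ = a :=
          mem_sup_of_normal_left.mp (hsup ▸ mem_top a : a ∈ M ⊔ A)
        obtain ⟨b₁, hb₁, b₂, hb₂, rfl⟩ : ∃ b₁ ∈ M, ∃ b₂ ∈ A, b₁ * b₂ = b :=
          mem_sup_of_normal_left.mp (hsup ▸ mem_top b : b ∈ M ⊔ A)
        have ha2 : ∀ y, y * a₂ = a₂ * y := mem_center_iff.mp (hAZ ha₂)
        have hb2 : ∀ y, y * b₂ = b₂ * y := mem_center_iff.mp (hAZ hb₂)
        have e : ⁅a₁ * a₂, b₁ * b₂⁆ = ⁅a₁, b₁⁆ := by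
          simp only [commutatorElement_def, mul_inv_rev]
          calc a₁ * a₂ * (b₁ * b₂) * (a₂⁻¹ * a₁⁻¹) * (b₂⁻¹ * b₁⁻¹)
              = a₁ * (a₂ * (b₁ * b₂)) * a₂⁻¹ * a₁⁻¹ * (b₂⁻¹ * b₁⁻¹) := by group
            _ = a₁ * ((b₁ * b₂) * a₂) * a₂⁻¹ * a₁⁻¹ * (b₂⁻¹ * b₁⁻¹) := by rw [← ha2 (b₁ * b₂)]
            _ = a₁ * b₁ * (b₂ * a₁⁻¹) * b₂⁻¹ * b₁⁻¹ := by group
            _ = a₁ * b₁ * (a₁⁻¹ * b₂) * b₂⁻¹ * b₁⁻¹ := by rw [hb2 a₁⁻¹]
            _ = a₁ * b₁ * a₁⁻¹ * b₁⁻¹ := by group
        rw [e, commutatorElement_def]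
        exact mul_mem (mul_mem (mul_mem ha₁ hb₁) (inv_mem ha₁)) (inv_mem hb₁)
      haveI : Group.IsSolvable (G ⧸ M) := by
        letI : CommGroup (G ⧸ M) := { (inferInstance : Group (G ⧸ M)) with
          mul_comm := fun a b => by
            obtain ⟨a, rfl⟩ := QuotientGroup.mk_surjective a
            obtain ⟨b, rfl⟩ := QuotientGroup.mk_surjective b
            rw [← QuotientGroup.mk_mul, ← QuotientGroup.mk_mul, QuotientGroup.eq]
            have := hcomm (commutator_mem_commutator (mem_top b⁻¹) (mem_top a⁻¹))
            simpa [commutatorElement_def, mul_assoc] using this }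
        infer_instance
      exact Group.isSolvable_of_ker_le_range M.subtype (QuotientGroup.mk' M)
        (by rw [QuotientGroup.ker_mk', Subgroup.range_subtype])
  · push Not at hne
    refine isSolvable_of_center ?_
    have hpg : IsPGroup p (G ⧸ center G) := IsPGroup.of_card
      (n := (Nat.card (G ⧸ center G)).primeFactorsList.length) (by
        refine Nat.eq_prime_pow_of_unique_prime_dvd Nat.card_pos.ne' fun {r} hr hrd => ?_
        by_contra hrp
        haveI := Fact.mk hr
        obtain ⟨R⟩ : Nonempty (Sylow r G) := inferInstance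
        exact R.not_dvd_index (hrd.trans (by
          rw [← index_eq_card]
          exact index_dvd_of_le fun a ha =>
            hne a ((PW.of_isPGroup R.2 ha).reg hr hp hrp))))
    haveI := hpg.isNilpotent
    infer_instance

end Cfsg.Lib.ClassSize3
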