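import Cfsg.Agent.Lib.ClassSize3.Abelian

/-!
# Three class sizes: solvability

Itô: a finite group with class sizes `1`, `n₂ < n₁` is solvable. If `n₁/n₂` is a power of `p₀` the
centralisers of elements of prime power order for two other primes cover too few elements; otherwise
the centralisers are abelian.
-/

set_option autoImplicit false
set_option linter.style.haveILetI false
set_option linter.unusedSectionVars false

namespace Cfsg.Lib.ClassSize3

open Subgroup
open Cfsg.Lib.TwoSizes (PW)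
open Cfsg.Lib.ClassNM

variable {G : Type*} [Group G]

/-- If all parts of the elements of a centraliser are central in it, it is abelian. -/
theorem le_of_part_le [Finite G] {u : G}
    (h : ∀ t : ℕ, t.Prime → ∀ v ∈ Cn u, PW t v → Cn u ≤ Cn v) : ∀ v ∈ Cn u, Cn u ≤ Cn v :=
  fun v hv a ha => mem_Cn_comm.mp (TwoSizes.mem_of_parts fun t ht _ i hi =>
    mem_Cn_comm.mp (h t ht _ (pow_mem hv i) hi ha))

variable [Finite G]

/-- A prime dividing the index of the centre has noncentral elements. -/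
theorem NC_of_dvd_index {r : ℕ} [Fact r.Prime] (h : r ∣ (center G).index) : TwoSizes.NC r G := by
  by_contra hne
  obtain ⟨R⟩ : Nonempty (Sylow r G) := inferInstance
  refine R.not_dvd_index (h.trans (index_dvd_of_le fun a ha => ?_))
  by_contra haZ
  exact hne ⟨a, PW.of_isPGroup R.2 ha, haZ⟩

theorem exists_third (hns : ¬ Group.IsSolvable G) {p q : ℕ} (hp : p.Prime) (hq : q.Prime) :
    ∃ r : ℕ, r.Prime ∧ r ≠ p ∧ r ≠ q ∧ TwoSizes.NC r G := by
  obtain ⟨r, hr, hrp, hrq, hd⟩ :=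
    Kazarin.exists_third_prime (fun h => hns (isSolvable_of_center h)) hp hq
  haveI := Fact.mk hr
  exact ⟨r, hr, hrp, hrq, NC_of_dvd_index (by rwa [index_eq_card])⟩

/-- A commuting coprime element not changing the class size is central in the centraliser. -/
theorem absorb {u w : G} (hwu : w ∈ Cn u) (hc : (orderOf u).Coprime (orderOf w))
    (h : ind (u * w) = ind u) : Cn u ≤ Cn w := by
  have h1 := Cn_mul (mem_Cn.mp hwu).symm hc
  have h2 : Cn (u * w) = Cn u := Cn_eq_of_le (h1.trans_le inf_le_left) h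
  rw [h2] at h1
  exact h1.le.trans inf_le_right

theorem noncentral_mul {u w : G} (hu : u ∉ center G) (hwu : w ∈ Cn u)
    (hc : (orderOf u).Coprime (orderOf w)) : u * w ∉ center G := fun h => hu (by
  refine mem_center_iff.mpr fun g => (mem_Cn.mp ?_).eq
  exact (Cn_mul_le (mem_Cn.mp hwu).symm hc (le_Cn_of_center h ⊤ (mem_top g))).1)

/-- The two class sizes of noncentral elements. -/
structure Sizes3 (G : Type*) [Group G] (n₁ n₂ : ℕ) : Prop where
  lt : n₂ < n₁
  one_lt : 1 < n₂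
  cases : ∀ g : G, g ∉ center G → ind g = n₂ ∨ ind g = n₁
  ex₂ : ∃ g : G, g ∉ center G ∧ ind g = n₂

/-- Interface lemma: centralisers of parts decide. -/
theorem isSolvable_of_parts {n n' : ℕ}
    (hcases : ∀ g : G, g ∉ center G → ind g = n ∨ ind g = n')
    (ha : ∀ r s : ℕ, r.Prime → s.Prime → r ≠ s → ∀ u w : G, PW r u → u ∉ center G → PW s w →
      w ∉ center G → w ∈ Cn u → ∀ v ∈ Cn u, v ∉ center G → Cn v = Cn u)
    (hb : ∀ g : G, g ∉ center G → ∀ u ∈ zpowers g, ∀ r : ℕ, r.Prime → PW r u → u ∉ center G →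
      ind u = ind g) : Group.IsSolvable G := by
  classical
  by_cases hpure : ∃ (r : ℕ) (u : G), r.Prime ∧ PW r u ∧ u ∉ center G ∧
      ∀ s : ℕ, s.Prime → s ≠ r → ∀ w ∈ Cn u, PW s w → w ∈ center G
  · obtain ⟨r, u, hr, hur, huZ, hpu⟩ := hpure
    refine isSolvable_of_regular_const hr (n := if ind u = n then n' else n) fun g hg hgZ => ?_
    obtain ⟨s, hs, hsd, v, hv, hvs, hvZ⟩ := exists_nc_part hgZ
    haveI := Fact.mk hs
    have hsr : s ≠ r := by
      rintro rfl
      exact (hr.coprime_iff_not_dvd.mp hg.symm) hsd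
    have hne : ind v ≠ ind u := fun he => by
      obtain ⟨w, hw, hws, hwZ⟩ := exists_nc_of_ind_eq he.symm ⟨v, mem_Cn_self v, hvs, hvZ⟩
      exact hwZ (hpu s hs hsr w hw hws)
    rw [← hb g hgZ v hv s hs hvs hvZ]
    rcases hcases v hvZ with h | h <;> rcases hcases u huZ with h' | h' <;> split_ifs <;> omega
  push Not at hpure
  have hpart : ∀ g : G, g ∉ center G → ∃ (r s : ℕ) (u w : G), r.Prime ∧ s.Prime ∧ r ≠ s ∧ PW r u ∧
      u ∉ center G ∧ PW s w ∧ w ∉ center G ∧ w ∈ Cn u ∧ Cn g = Cn u := by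
    intro g hg
    obtain ⟨r, hr, -, u, hu, hur, huZ⟩ := exists_nc_part hg
    obtain ⟨s, hs, hsr, w, hw, hws, hwZ⟩ := hpure r u hr hur huZ
    exact ⟨r, s, u, w, hr, hs, hsr.symm, hur, huZ, hws, hwZ, hw,
      Cn_eq_of_le (Cn_le_of_mem_zpowers hu) (hb g hg u hu r hr hur huZ).symm⟩
  refine isSolvable_of_abelian_two (n := n) (n' := n') ?_ hcases ?_
  · intro g hg v hv hvZ
    obtain ⟨r, s, u, w, hr, hs, hrs, hur, huZ, hws, hwZ, hw, he⟩ := hpart g hg
    rw [he] at hv ⊢
    exact ha r s hr hs hrs u w hur huZ hws hwZ hw v hv hvZ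
  · intro g hg t
    obtain ⟨r, s, u, w, hr, hs, hrs, hur, huZ, hws, hwZ, hw, he⟩ := hpart g hg
    by_cases hst : s = t
    · exact ⟨r, hr, fun h => hrs (h.trans hst.symm), u, he.symm ▸ mem_Cn_self u, hur, huZ⟩
    · exact ⟨s, hs, hst, w, he.symm ▸ hw, hws, hwZ⟩

variable {n₁ n₂ : ℕ} (h : Sizes3 G n₁ n₂)

include h

/-- Incomparable class sizes. -/
theorem Sizes3.isSolvable_of_not_dvd (hd : ¬ n₂ ∣ n₁) : Group.IsSolvable G := by
  have heq : ∀ {g g' : G}, g ∉ center G → g' ∉ center G → ind g ∣ ind g' → ind g = ind g' := by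
    intro g g' hg hg' hdvd
    rcases h.cases g hg with e | e <;> rcases h.cases g' hg' with e' | e' <;> rw [e, e'] at hdvd ⊢
    · exact absurd hdvd hd
    · exact absurd (Nat.le_of_dvd (by have := h.one_lt; omega) hdvd) (not_le.mpr h.lt)
  have habs : ∀ {r s : ℕ}, r.Prime → s.Prime → r ≠ s → ∀ {u w : G}, PW r u → u ∉ center G →
      PW s w → w ∈ Cn u → Cn u ≤ Cn w := by
    intro r s hr hs hrs u w hu huZ hw hwu
    have hc := TwoSizes.PW.coprime hr hs hrs hu hw
    exact absorb hwu hc (heq huZ (noncentral_mul huZ hwu hc)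
      (ind_dvd_of_le ((Cn_mul_le (mem_Cn.mp hwu).symm hc).trans inf_le_left))).symm
  refine isSolvable_of_parts (n := n₂) (n' := n₁) h.cases ?_ fun g hg u hu _ _ _ huZ =>
    heq huZ hg (ind_dvd_of_le (Cn_le_of_mem_zpowers hu))
  intro r s hr hs hrs u w hu huZ hw hwZ hwu v hv hvZ
  have hle : ∀ t : ℕ, t.Prime → ∀ a ∈ Cn u, PW t a → Cn u ≤ Cn a := by
    intro t ht a ha hat
    by_cases hrt : r = t
    · subst hrt
      have h1 := habs hr hs hrs hu huZ hw hwu
      exact h1.trans (habs hs hr hrs.symm hw hwZ hat (h1 ha))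
    · exact habs hr ht hrt hu huZ hat ha
  have h2 := le_of_part_le hle v hv
  exact (Cn_eq_of_le h2 (heq hvZ huZ (ind_dvd_of_le h2)).symm).symm

section Divides

variable {m : ℕ} (hm : n₁ = n₂ * m)

include hm

theorem Sizes3.one_lt_m : 1 < m := by
  by_contra hm1
  have := h.lt
  interval_cases m <;> omega

theorem Sizes3.eq_two {g : G} (hg : g ∉ center G) (hd : ind g ∣ n₂) : ind g = n₂ :=
  (h.cases g hg).resolve_right fun e => absurd (Nat.le_of_dvd (by have := h.one_lt; omega) (e ▸ hd))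
    (not_le.mpr h.lt)

theorem Sizes3.eq_one_of_dvd {g : G} (hg : g ∉ center G) (hd : n₁ ∣ ind g) : ind g = n₁ :=
  (h.cases g hg).resolve_left fun e => absurd (Nat.le_of_dvd (by have := h.one_lt; omega) (e ▸ hd))
    (not_le.mpr h.lt)

theorem Sizes3.cn_eq_two {x z : G} (hx : ind x = n₂) (hz : z ∉ center G) (hle : Cn x ≤ Cn z) :
    Cn z = Cn x :=
  (Cn_eq_of_le hle (hx.trans (h.eq_two hm hz (hx ▸ ind_dvd_of_le hle)).symm)).symm

/-- Centralisers of the smaller class size meet all noncentral primes. -/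
theorem Sizes3.exists_nc {r : ℕ} [Fact r.Prime] (hr : TwoSizes.NC r G) {x : G} (hxZ : x ∉ center G)
    (hx : ind x = n₂ ∨ ¬ r ∣ m) : ∃ w ∈ Cn x, PW r w ∧ w ∉ center G := by
  by_contra hne
  have h1 : ∀ a ∈ Cn x, PW r a → a ∈ center G := fun a ha har => by
    by_contra haZ; exact hne ⟨a, ha, har, haZ⟩
  obtain ⟨u, hur, huZ⟩ := hr
  refine huZ (mem_center_of_fact hur (mem_Cn_self u) (le_antisymm ?_ (fact_card_le (center_le_Cn u) r)))
  have h2 := fact_eq_center h1
  have h3 := fact_ind x r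
  have h4 := fact_ind u r
  have hn₂ : n₂ ≠ 0 := by have := h.one_lt; omega
  have hm0 : m ≠ 0 := by have := h.one_lt_m hm; omega
  have h5 : n₁.factorization r = n₂.factorization r + m.factorization r := by
    rw [hm, Nat.factorization_mul hn₂ hm0, Finsupp.add_apply]
  have h6 : (ind x).factorization r ≤ (ind u).factorization r := by
    rcases hx with e | e
    · rw [e]; rcases h.cases u huZ with e' | e' <;> rw [e'] <;> omega
    · have := Nat.factorization_eq_zero_of_not_dvd e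
      rcases h.cases u huZ with e' | e' <;> rcases h.cases x hxZ with e'' | e'' <;>
        rw [e', e''] <;> omega
  omega

theorem Sizes3.absorb_one {r s : ℕ} (hr : r.Prime) (hs : s.Prime) (hrs : r ≠ s) {u w : G}
    (hu : PW r u) (huZ : u ∉ center G) (hu1 : ind u = n₁) (hw : PW s w) (hwu : w ∈ Cn u) :
    Cn u ≤ Cn w := by
  have hc := TwoSizes.PW.coprime hr hs hrs hu hw
  refine absorb hwu hc ?_
  rw [hu1, h.eq_one_of_dvd hm (noncentral_mul huZ hwu hc)]
  exact hu1 ▸ ind_dvd_of_le ((Cn_mul_le (mem_Cn.mp hwu).symm hc).trans inf_le_left)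

/-- A noncentral commuting pair inside a large centraliser controls the primes of the quotient of
the class sizes. -/
theorem Sizes3.le_or {q s : ℕ} (hq : q.Prime) (hs : s.Prime) (hqs : q ≠ s) {x w₀ : G}
    (hxq : PW q x) (hxZ : x ∉ center G) (hx : ind x = n₂) (hw₀r : PW s w₀) (hw₀ : w₀ ∈ Cn x) :
    Cn x ≤ Cn w₀ ∨ ∀ l : ℕ, l.Prime → l ∣ m → l = q ∨ l = s := by
  classical
  refine or_iff_not_imp_left.mpr fun hw₀n => ?_
  have hrel : ∀ v : Cn x, (orderOf v).Coprime q → (Cn v).index = 1 ∨ (Cn v).index = m := by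
    intro v hv
    obtain ⟨k, hk⟩ := PW.orderOf_eq hq hxq
    have hc : (orderOf x).Coprime (orderOf (v : G)) := by
      rw [hk, orderOf_coe]; exact hv.symm.pow_left k
    have h1 := ind_mul (mem_Cn.mp v.2).symm hc
    rw [index_Cn_coe]
    have hn₂ : 0 < n₂ := by have := h.one_lt; omega
    rcases h.cases _ (noncentral_mul hxZ v.2 hc) with e | e <;> rw [e, hx] at h1
    · exact Or.inl ((Nat.mul_eq_right hn₂.ne').mp h1.symm)
    · exact Or.inr (Nat.eq_of_mul_eq_mul_right hn₂ (h1.symm.trans (hm.trans (mul_comm _ _))))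
  have hm1 := h.one_lt_m hm
  have hw₀c : (orderOf (⟨w₀, hw₀⟩ : Cn x)).Coprime q := by
    rw [← orderOf_coe]
    exact hw₀r.reg hs hq hqs.symm
  have hw₀m : (Cn (⟨w₀, hw₀⟩ : Cn x)).index = m := by
    refine (hrel _ hw₀c).resolve_left fun e => hw₀n ?_
    rw [index_Cn_coe] at e
    exact relIndex_eq_one.mp e
  have h2 : Set.ncard (Set.range fun v : {v : Cn x // (orderOf v).Coprime q} =>
      (ConjClasses.mk (v : Cn x)).carrier.ncard) = 2 := by
    have he : (Set.range fun v : {v : Cn x // (orderOf v).Coprime q} =>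
        (ConjClasses.mk (v : Cn x)).carrier.ncard) = {1, m} := by
      ext k
      simp only [Set.mem_range, Cfsg.Agent.S4035.carrier_ncard_eq_index, Set.mem_insert_iff,
        Set.mem_singleton_iff]
      constructor
      · rintro ⟨⟨v, hv⟩, rfl⟩
        exact hrel v hv
      · rintro (rfl | rfl)
        · exact ⟨⟨1, by simp⟩, ind_eq_one_iff.mpr (one_mem _)⟩
        · exact ⟨⟨_, hw₀c⟩, hw₀m⟩
    rw [he, Set.ncard_pair (by omega)]
  haveI := Fact.mk hs
  have hwPW : PW s (⟨w₀, hw₀⟩ : Cn x) := by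
    obtain ⟨j, hj⟩ := hw₀r
    exact ⟨j, Subtype.ext (by simpa using hj)⟩
  rcases Cfsg.Agent.S4033.result hq h2 with ⟨H, hH, -, k, hk⟩ |
    ⟨t, htF, P, Q, A, htq, hAZ, hcard, hN, hinf, hsup⟩
  · have hfull : (Nat.card (Cn x)).factorization s ≤ (Nat.card H).factorization s := by
      have h1 := congrArg (fun j : ℕ => j.factorization s) H.index_mul_card
      rw [hk] at h1
      simp only [Nat.factorization_mul (pow_ne_zero k hq.ne_zero) Nat.card_pos.ne', Finsupp.add_apply,
        hq.factorization_pow, Finsupp.single_eq_of_ne hqs.symm, zero_add] at h1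
      omega
    obtain ⟨g, hg⟩ := exists_conj_mem (H := H) hfull hwPW
    intro l hl hlm
    left
    have hle : H ≤ Cn (g * (⟨w₀, hw₀⟩ : Cn x) * g⁻¹) := fun a ha => mem_Cn.mpr (by
      have := hH
      exact Commute.map (f := H.subtype) (Std.Commutative.comm (⟨a, ha⟩ : H) ⟨_, hg⟩))
    have hd : m ∣ q ^ k := by
      have := index_dvd_of_le hle
      rw [← hk, ← hw₀m]
      rwa [← ind, ind_conj] at this
    exact (Nat.prime_dvd_prime_iff_eq hl hq).mp (hl.dvd_of_dvd_pow (hlm.trans hd))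
  · have ht : t.Prime := htF.out
    haveI : Fact q.Prime := ⟨hq⟩
    haveI := hN
    set M : Subgroup (Cn x) := (P : Subgroup (Cn x)) ⊔ (Q : Subgroup (Cn x))
    obtain ⟨i, hi⟩ := IsPGroup.iff_card.mp P.2
    obtain ⟨j, hj⟩ := IsPGroup.iff_card.mp Q.2
    rw [hi, hj] at hcard
    have hMA : M.index = Nat.card A := by
      have h1 : M.relIndex (A ⊔ M) = M.relIndex A := relIndex_sup_right (H := A) M
      rw [sup_comm, hsup, relIndex_top_right, ← inf_relIndex_right, hinf, relIndex_bot_left] at h1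
      exact h1
    have hAM : A.index = Nat.card M := by
      have h1 := M.index_mul_card
      rw [← A.index_mul_card, hMA, mul_comm] at h1
      exact (Nat.eq_of_mul_eq_mul_right Nat.card_pos h1).symm
    have hts : t = s := by
      by_contra hts
      refine hw₀n ?_
      have hfull : (Nat.card (Cn x)).factorization s ≤ (Nat.card A).factorization s := by
        have h1 := congrArg (fun j : ℕ => j.factorization s) M.index_mul_card
        rw [hMA, hcard] at h1
        simp only [Nat.factorization_mul Nat.card_pos.ne' (mul_ne_zero (pow_ne_zero i hq.ne_zero)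
          (pow_ne_zero j ht.ne_zero)), Nat.factorization_mul (pow_ne_zero i hq.ne_zero)
          (pow_ne_zero j ht.ne_zero), Finsupp.add_apply, hq.factorization_pow, ht.factorization_pow,
          Finsupp.single_eq_of_ne hqs.symm, Finsupp.single_eq_of_ne (Ne.symm hts), add_zero] at h1
        omega
      obtain ⟨g, hg⟩ := exists_conj_mem (H := A) hfull hwPW
      have hZ := conj_mem_center g (hAZ hg)
      intro a ha
      exact mem_Cn.mpr (congrArg Subtype.val (mem_center_iff.mp hZ ⟨a, ha⟩))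
    intro l hl hlm
    have hd : m ∣ Nat.card M := by
      rw [← hw₀m, ← hAM]
      exact index_dvd_of_le fun a ha => mem_Cn.mpr (mem_center_iff.mp (hAZ ha) _).symm
    rcases hl.dvd_mul.mp (hcard ▸ hlm.trans hd) with e | e
    · exact Or.inl ((Nat.prime_dvd_prime_iff_eq hl hq).mp (hl.dvd_of_dvd_pow e))
    · exact Or.inr (((Nat.prime_dvd_prime_iff_eq hl ht).mp (hl.dvd_of_dvd_pow e)).trans hts)

/-- The quotient of the class sizes is a prime power: impossible for nonsolvable groups. -/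
theorem Sizes3.false_of_prime_power (hns : ¬ Group.IsSolvable G) {p₀ : ℕ} (hp₀ : p₀.Prime)
    (hP : ∀ l : ℕ, l.Prime → l ∣ m → l = p₀) : False := by
  classical
  set S : Set ℕ := {r | r.Prime ∧ r ≠ p₀} with hS
  have hndm : ∀ r ∈ S, ¬ r ∣ m := fun r hr hd => hr.2 (hP r hr.1 hd)
  have hle2 : ∀ r ∈ S, ∀ s ∈ S, r ≠ s → ∀ {u v : G}, PW r u → u ∉ center G → ind u = n₂ →
      PW s v → v ∈ Cn u → Cn u ≤ Cn v := by
    intro r hr s hs hrs u v hu huZ hu2 hv hvu
    refine (h.le_or hm hr.1 hs.1 hrs hu huZ hu2 hv hvu).resolve_right fun hall => ?_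
    have hm1 := h.one_lt_m hm
    obtain ⟨l, hl, hlm⟩ := Nat.exists_prime_and_dvd (show m ≠ 1 by omega)
    have := hP l hl hlm
    rcases hall l hl hlm with e | e
    · exact hr.2 (e.symm.trans this)
    · exact hs.2 (e.symm.trans this)
  have hle : ∀ r ∈ S, ∀ s ∈ S, ∀ u v : G, PW r u → PW s v → u ∉ center G → v ∈ Cn u →
      Cn u ≤ Cn v := by
    intro r hr s hs u v hu hv huZ hvu
    by_cases hrs : r = s
    · subst hrs
      obtain ⟨t, ht, htr, htp, hNC⟩ := exists_third hns hr.1 hp₀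
      haveI := Fact.mk ht
      have htS : t ∈ S := ⟨ht, htp⟩
      obtain ⟨z, hz, hzt, hzZ⟩ := h.exists_nc hm hNC huZ (Or.inr (hndm t htS))
      rcases h.cases u huZ with e | e
      · have he := h.cn_eq_two hm e hzZ (hle2 r hr t htS htr.symm hu huZ e hzt hz)
        rw [← he] at hvu ⊢
        exact hle2 t htS r hr htr hzt hzZ ((congrArg Subgroup.index he).trans e) hv hvu
      · have hzl := h.absorb_one hm hr.1 ht htr.symm hu huZ e hzt hz
        rcases h.cases z hzZ with e' | e'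
        · have := h.cn_eq_two hm e' huZ (hle2 t htS r hr htr hzt hzZ e' hu (mem_Cn_comm.mp hz))
          have e2 : ind u = ind z := congrArg Subgroup.index this
          have := h.lt
          omega
        · have he := Cn_eq_of_le hzl (e.trans e'.symm)
          rw [he] at hvu ⊢
          exact h.absorb_one hm ht hr.1 htr hzt hzZ e' hv hvu
    · rcases h.cases u huZ with e | e
      · exact hle2 r hr s hs hrs hu huZ e hv hvu
      · exact h.absorb_one hm hr.1 hs.1 hrs hu huZ e hv hvu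
  have hT : Trans S G := fun r hr s hs u v hu hv huZ hvZ hvu =>
    le_antisymm (hle s hs r hr v u hv hu hvZ (mem_Cn_comm.mp hvu)) (hle r hr s hs u v hu hv huZ hvu)
  have hdvd : ∀ r ∈ S, ∀ u : G, TwoSizes.NC r G → u ∉ center G → r ∣ ind u := by
    intro r hr u hNC huZ
    haveI := Fact.mk hr.1
    have hn : r ∣ n₂ := by
      by_contra hn
      obtain ⟨w, hwr, hwZ⟩ := hNC
      obtain ⟨R, hR⟩ := hwr.isPGroup_zpowers.exists_le_sylow
      refine hwZ (sylow_le_center_of_forall (fun g => ?_) R (hR (mem_zpowers w)))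
      by_cases hg : g ∈ center G
      · rw [ind_eq_one_iff.mpr hg]; exact hr.1.not_dvd_one
      rcases h.cases g hg with e | e <;> rw [e]
      · exact hn
      · rw [hm, hr.1.dvd_mul]; exact fun hh => hh.elim hn (hndm r hr)
    rcases h.cases u huZ with e | e <;> rw [e]
    · exact hn
    · exact hm ▸ dvd_mul_of_dvd_left hn m
  obtain ⟨q, q', hqS, hq'S, hlt, hNC, hNC'⟩ : ∃ q q' : ℕ, q ∈ S ∧ q' ∈ S ∧ q < q' ∧
      TwoSizes.NC q G ∧ TwoSizes.NC q' G := by
    obtain ⟨a, ha, hap, -, hNa⟩ := exists_third hns hp₀ hp₀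
    obtain ⟨b, hb, hbp, hba, hNb⟩ := exists_third hns hp₀ ha
    rcases Nat.lt_or_gt_of_ne hba with h' | h'
    · exact ⟨b, a, ⟨hb, hbp⟩, ⟨ha, hap⟩, h', hNb, hNa⟩
    · exact ⟨a, b, ⟨ha, hap⟩, ⟨hb, hbp⟩, h', hNa, hNb⟩
  haveI := Fact.mk hqS.1
  haveI := Fact.mk hq'S.1
  obtain ⟨f, hf, hcov⟩ := hT.exists_list hqS hNC (fun u _ huZ => hdvd q hqS u hNC huZ)
    fun u _ huZ => ⟨q', hq'S.1, hlt.ne', hq'S, h.exists_nc hm hNC' huZ (Or.inr (hndm q' hq'S))⟩
  have hK : q * q' * weight (fun i => Cn (f i)) ≤ (q + 1) * Nat.card G := by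
    refine (mul_weight_le _ fun i => Nat.le_of_dvd (Nat.pos_of_ne_zero index_ne_zero_of_finite)
      ?_).trans_eq (by rw [Fintype.card_fin])
    refine ((Nat.coprime_primes hqS.1 hq'S.1).mpr hlt.ne).mul_dvd_of_dvd_of_dvd
      (hT.dvd_relIndex hqS (hf i).1 (hf i).2 (hdvd q hqS _ hNC (hf i).2)) ?_
    obtain ⟨w, hw, hwr, hwZ⟩ := h.exists_nc hm hNC' (hf i).2 (Or.inr (hndm q' hq'S))
    rw [← hT q hqS q' hq'S _ w (hf i).1 hwr (hf i).2 hwZ hw]
    exact hT.dvd_relIndex hq'S hwr hwZ (hdvd q' hq'S w hNC' hwZ)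
  obtain ⟨g₀, hg₀, -⟩ := h.ex₂
  obtain ⟨i, hi⟩ := exists_eq_top (fun i => Cn (f i)) (fun i => center_le_Cn _)
    (fun e => hg₀ (e ▸ mem_top g₀))
    (fun g hg => by
      obtain ⟨w, hw, hwr, hwZ⟩ := h.exists_nc hm hNC hg (Or.inr (hndm q hqS))
      obtain ⟨i, a, ha⟩ := hcov w hwr hwZ
      exact ⟨i, a, ha ▸ mem_Cn_conj a (mem_Cn_comm.mp hw)⟩)
    (by
      have h2 : q + 1 ≤ q * q' := by
        have := hqS.1.two_le
        nlinarith
      exact Nat.le_of_mul_le_mul_left (hK.trans (Nat.mul_le_mul_right _ h2))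
        (Nat.mul_pos hqS.1.pos hq'S.1.pos))
  exact (hf i).2 (ind_eq_one_iff.mp (index_eq_one.mpr hi))

/-- The quotient of the class sizes has two primes. -/
theorem Sizes3.isSolvable_of_two_primes {a b : ℕ} (ha : a.Prime) (hb : b.Prime) (hab : a ≠ b)
    (ham : a ∣ m) (hbm : b ∣ m) : Group.IsSolvable G := by
  classical
  by_cases hns : Group.IsSolvable G
  · exact hns
  have hle0 : ∀ {r t : ℕ}, r.Prime → t.Prime → r ≠ t → ((a ≠ r ∧ a ≠ t) ∨ (b ≠ r ∧ b ≠ t)) →
      ∀ {u v : G}, PW r u → u ∉ center G → ind u = n₂ → PW t v → v ∈ Cn u → Cn u ≤ Cn v := by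
    intro r t hr ht hrt hl u v hu huZ hu2 hv hvu
    refine (h.le_or hm hr ht hrt hu huZ hu2 hv hvu).resolve_right fun hall => ?_
    rcases hl with ⟨h1, h2⟩ | ⟨h1, h2⟩
    · exact (hall a ha ham).elim h1 h2
    · exact (hall b hb hbm).elim h1 h2
  have habL : ∀ r : ℕ, r.Prime → ∀ u : G, PW r u → u ∉ center G → ind u = n₂ →
      ∀ v ∈ Cn u, v ∉ center G → Cn v = Cn u := by
    intro r hr u hu huZ hu2 v hv hvZ
    refine h.cn_eq_two hm hu2 hvZ (le_of_part_le (fun t ht w hw hwt => ?_) v hv)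
    by_cases hdir : r ≠ t ∧ ((a ≠ r ∧ a ≠ t) ∨ (b ≠ r ∧ b ≠ t))
    · exact hle0 hr ht hdir.1 hdir.2 hu huZ hu2 hwt hw
    obtain ⟨c, hc, hNC, hcr, hl1, hct, hl2⟩ : ∃ c : ℕ, c.Prime ∧ TwoSizes.NC c G ∧ r ≠ c ∧
        ((a ≠ r ∧ a ≠ c) ∨ (b ≠ r ∧ b ≠ c)) ∧ c ≠ t ∧ ((a ≠ c ∧ a ≠ t) ∨ (b ≠ c ∧ b ≠ t)) := by
      by_cases hrab : r = a ∨ r = b
      · obtain ⟨c, hc, hca, hcb, hNC⟩ := exists_third hns ha hb
        exact ⟨c, hc, hNC, by omega, by omega, by omega, by omega⟩
      · haveI := Fact.mk ha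
        refine ⟨a, ha, NC_of_dvd_index ?_, by omega, by omega, by omega, by omega⟩
        obtain ⟨g, hg⟩ : ∃ g : G, ind g = n₁ := by
          by_contra! hno
          refine hns (isSolvable_of_regular_const Nat.prime_two (n := n₂) fun x _ hx => ?_)
          exact (h.cases x hx).resolve_right (hno x)
        exact (ham.trans (Dvd.intro_left n₂ hm.symm)).trans (hg ▸ index_dvd_of_le (center_le_Cn g))
    haveI := Fact.mk hc
    obtain ⟨z, hz, hzc, hzZ⟩ := h.exists_nc hm hNC huZ (Or.inl hu2)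
    have he := h.cn_eq_two hm hu2 hzZ (hle0 hr hc hcr hl1 hu huZ hu2 hzc hz)
    rw [← he] at hw ⊢
    exact hle0 hc ht hct hl2 hzc hzZ ((congrArg Subgroup.index he).trans hu2) hwt hw
  have hb' : ∀ g : G, g ∉ center G → ∀ u ∈ zpowers g, ∀ r : ℕ, r.Prime → PW r u →
      u ∉ center G → ind u = ind g := by
    intro g hg u hu r hr hur huZ
    rcases h.cases u huZ with e | e
    · exact congrArg Subgroup.index
        (habL r hr u hur huZ e g (Cn_le_of_mem_zpowers hu (mem_Cn_self g)) hg).symm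
    · rw [e, h.eq_one_of_dvd hm hg (e ▸ ind_dvd_of_le (Cn_le_of_mem_zpowers hu))]
  refine isSolvable_of_parts (n := n₂) (n' := n₁) h.cases ?_ hb'
  intro r s hr hs hrs u w hu huZ hw hwZ hwu v hv hvZ
  rcases h.cases u huZ with e | e
  · exact habL r hr u hu huZ e v hv hvZ
  -- both `u` and everything in its centraliser has the larger class size
  have hbig : ∀ z ∈ Cn u, z ∉ center G → ind z = n₁ := by
    intro z hz hzZ
    refine (h.cases z hzZ).resolve_left fun e' => ?_
    obtain ⟨t, ht, -, y, hy, hyt, hyZ⟩ := exists_nc_part hzZ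
    have e2 : ind y = n₂ := (hb' z hzZ y hy t ht hyt hyZ).trans e'
    have huy : u ∈ Cn y := Cn_le_of_mem_zpowers hy (mem_Cn_comm.mp hz)
    have : ind u = ind y := congrArg Subgroup.index (habL t ht y hyt hyZ e2 u huy huZ)
    have := h.lt
    omega
  have hw1 := hbig w hwu hwZ
  have huw := h.absorb_one hm hr hs hrs hu huZ e hw hwu
  have hall := le_of_part_le (u := u) fun t ht a' ha' hat => by
    by_cases hrt : r = t
    · subst hrt
      exact huw.trans (h.absorb_one hm hs hr hrs.symm hw hwZ hw1 hat (huw ha'))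
    · exact h.absorb_one hm hr ht hrt hu huZ e hat ha'
  exact (Cn_eq_of_le (hall v hv) (e.trans (hbig v hv hvZ).symm)).symm

end Divides

/-- Itô: three class sizes imply solvability. -/
theorem Sizes3.isSolvable : Group.IsSolvable G := by
  by_cases hd : n₂ ∣ n₁
  · obtain ⟨m, hm⟩ := hd
    by_contra hns
    have hm1 := h.one_lt_m hm
    obtain ⟨p₀, hp₀, hp₀m⟩ := Nat.exists_prime_and_dvd (show m ≠ 1 by omega)
    by_cases hP : ∀ l : ℕ, l.Prime → l ∣ m → l = p₀
    · exact h.false_of_prime_power hm hns hp₀ hP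
    · push Not at hP
      obtain ⟨l, hl, hlm, hlp⟩ := hP
      exact hns (h.isSolvable_of_two_primes hm hl hp₀ hlp hlm hp₀m)
  · exact h.isSolvable_of_not_dvd hd

end Cfsg.Lib.ClassSize3
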