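import Cfsg.Agent.Lib.ClassSize3.Basic
import Cfsg.Agent.Lib.TwoSizes.Main

/-!
# Centralisers of `q`-elements when commuting is transitive

Let commuting elements of prime power order, for primes in a set `S`, have equal centralisers when
noncentral. If `q ∈ S` divides every class size of a noncentral `q`-element and each of their
centralisers has a noncentral element for another prime of `S`, these centralisers fall into at most
`q + 1` classes, and each has index divisible by `q` in its normaliser.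
-/

set_option autoImplicit false
set_option linter.style.haveILetI false
set_option linter.unusedSectionVars false

namespace Cfsg.Lib.ClassSize3

open Subgroup
open Cfsg.Lib.TwoSizes (PW)
open Cfsg.Lib.ClassNM

variable {G : Type*} [Group G]

/-- Commuting noncentral elements of prime power order, for primes in `S`, have equal
centralisers. -/
def Trans (S : Set ℕ) (G : Type*) [Group G] : Prop :=
  ∀ r ∈ S, ∀ s ∈ S, ∀ u v : G, PW r u → PW s v → u ∉ center G → v ∉ center G → v ∈ Cn u →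
    Cn v = Cn u

variable {S : Set ℕ} (hT : Trans S G)

theorem conj_noncentral {x : G} (g : G) (hx : x ∉ center G) : g * x * g⁻¹ ∉ center G :=
  fun h => hx (conj_mem_center g h)

include hT

/-- The elements of prime power order for a prime of `S` in such a centraliser are central in it. -/
theorem Trans.commute {q r : ℕ} (hq : q ∈ S) (hr : r ∈ S) {u v a : G} (hu : PW q u)
    (huZ : u ∉ center G) (hv : PW r v) (hvu : v ∈ Cn u) (ha : a ∈ Cn u) : Commute a v := by
  by_cases hvZ : v ∈ center G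
  · exact mem_center_iff.mp hvZ a
  · exact mem_Cn.mp ((hT q hq r hr u v hu hv huZ hvZ hvu).symm ▸ ha)

/-- The `r`-elements of a centraliser, for a prime `r` of `S`. -/
def Trans.part {q r : ℕ} (hq : q ∈ S) (hr : r ∈ S) {x : G} (hx : PW q x)
    (hxZ : x ∉ center G) : Subgroup G where
  carrier := {v | v ∈ Cn x ∧ PW r v}
  one_mem' := ⟨one_mem _, 0, by simp⟩
  mul_mem' := fun {a b} ha hb => by
    refine ⟨mul_mem ha.1 hb.1, ?_⟩
    have hc : Commute a b := hT.commute hq hr hx hxZ hb.2 hb.1 ha.1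
    obtain ⟨i, hi⟩ := ha.2
    obtain ⟨j, hj⟩ := hb.2
    refine ⟨i + j, ?_⟩
    rw [hc.mul_pow, pow_add, pow_mul, hi, one_pow, one_mul, mul_comm (r ^ i), pow_mul, hj, one_pow]
  inv_mem' := fun {a} ha => ⟨inv_mem ha.1, by
    obtain ⟨i, hi⟩ := ha.2; exact ⟨i, by rw [inv_pow, hi, inv_one]⟩⟩

variable [Finite G]

/-- The group induced on the centraliser has cyclic elementary abelian `q`-subgroups. -/
theorem Trans.exists_mul_pow_mem {q r : ℕ} [Fact q.Prime] (hq : q ∈ S) (hr : r ∈ S)
    (hrp : r.Prime) (hrq : r ≠ q) {x w : G} (hx : PW q x) (hxZ : x ∉ center G) (hw : w ∈ Cn x)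
    (hwr : PW r w) (hwZ : w ∉ center G) {g h : G} (hg : g ∈ normalizer (Cn x : Set G))
    (hh : h ∈ normalizer (Cn x : Set G)) (hgq : g ^ q ∈ Cn x) (hhq : h ^ q ∈ Cn x)
    (hh' : h ∉ Cn x) (hgh : g * h * g⁻¹ * h⁻¹ ∈ Cn x) : ∃ i : ℕ, g * h ^ i ∈ Cn x := by
  by_contra hne
  push Not at hne
  set A := Cn x with hA
  set N := normalizer (A : Set G) with hN
  set L := hT.part hq hr hx hxZ with hL
  have hLn : ∀ n ∈ N, ∀ v ∈ L, n * v * n⁻¹ ∈ L := fun n hn v hv =>
    ⟨(mem_normalizer_iff.mp hn v).mp hv.1, PW_conj n hv.2⟩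
  letI : CommGroup L := { (inferInstance : Group L) with
    mul_comm := fun a b => Subtype.ext (hT.commute hq hr hx hxZ b.2.2 b.2.1 a.2.1).eq }
  let c : N →* MulAut L :=
    { toFun := fun n =>
        { toFun := fun v => ⟨(n : G) * v * (n : G)⁻¹, hLn n n.2 v v.2⟩
          invFun := fun v => ⟨(n : G)⁻¹ * v * n, by simpa using hLn _ (inv_mem n.2) v v.2⟩
          left_inv := fun v => by ext; simp [mul_assoc]
          right_inv := fun v => by ext; simp [mul_assoc]
          map_mul' := fun v v' => by ext; simp [mul_assoc] }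
      map_one' := by ext v; simp
      map_mul' := fun m n => by ext v; simp [mul_assoc] }
  have hker : A.subgroupOf N ≤ c.ker := by
    intro a ha
    rw [MonoidHom.mem_ker]
    ext v
    show (a : G) * v * (a : G)⁻¹ = (v : G)
    rw [(hT.commute hq hr hx hxZ v.2.2 v.2.1 (mem_subgroupOf.mp ha)).eq, mul_inv_cancel_right]
  let ψ : N ⧸ A.subgroupOf N →* MulAut L := QuotientGroup.lift _ c hker
  set Z : Subgroup L := (center G).subgroupOf L
  have hfix : ∀ y : N ⧸ A.subgroupOf N, y ≠ 1 → ∀ v : L, ψ y v = v → v ∈ Z := by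
    intro y hy v hv
    obtain ⟨n, rfl⟩ := QuotientGroup.mk_surjective y
    by_contra hvZ
    refine hy ((QuotientGroup.eq_one_iff n).mpr (mem_subgroupOf.mpr ?_))
    have h1 : (n : G) * v * (n : G)⁻¹ = v := congrArg Subtype.val hv
    have hvZ' : (v : G) ∉ center G := fun h => hvZ (mem_subgroupOf.mpr h)
    rw [hA, ← hT q hq r hr x v hx v.2.2 hxZ hvZ' v.2.1, mem_Cn]
    exact mul_inv_eq_iff_eq_mul.mp h1
  have hfixZ : ∀ y : N ⧸ A.subgroupOf N, ∀ z ∈ Z, ψ y z = z := by
    intro y z hz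
    obtain ⟨n, rfl⟩ := QuotientGroup.mk_surjective y
    apply Subtype.ext
    show (n : G) * z * (n : G)⁻¹ = z
    rw [mem_center_iff.mp (mem_subgroupOf.mp hz) n, mul_inv_cancel_right]
  set γ : N ⧸ A.subgroupOf N := QuotientGroup.mk ⟨g, hg⟩
  set η : N ⧸ A.subgroupOf N := QuotientGroup.mk ⟨h, hh⟩
  have hγq : γ ^ q = 1 := by
    rw [← QuotientGroup.mk_pow]; exact (QuotientGroup.eq_one_iff _).mpr (mem_subgroupOf.mpr hgq)
  have hηq : η ^ q = 1 := by
    rw [← QuotientGroup.mk_pow]; exact (QuotientGroup.eq_one_iff _).mpr (mem_subgroupOf.mpr hhq)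
  have hg0 : g ∉ A := by simpa using hne 0
  have hγ : orderOf γ = q := orderOf_eq_prime hγq fun e =>
    hg0 (mem_subgroupOf.mp ((QuotientGroup.eq_one_iff _).mp e))
  have hη : orderOf η = q := orderOf_eq_prime hηq fun e =>
    hh' (mem_subgroupOf.mp ((QuotientGroup.eq_one_iff _).mp e))
  have hcomm : Commute γ η := by
    have h1 : γ * η * γ⁻¹ * η⁻¹ = 1 := by
      rw [← QuotientGroup.mk_mul, ← QuotientGroup.mk_inv, ← QuotientGroup.mk_mul,
        ← QuotientGroup.mk_inv, ← QuotientGroup.mk_mul]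
      exact (QuotientGroup.eq_one_iff _).mpr (mem_subgroupOf.mpr hgh)
    exact mul_inv_eq_iff_eq_mul.mp (mul_inv_eq_one.mp h1)
  have hnot : γ ∉ zpowers η := by
    intro hmem
    obtain ⟨n, hn⟩ := Submonoid.mem_powers_iff _ _ |>.mp (mem_powers_iff_mem_zpowers.mpr hmem)
    refine hne (n * (q - 1)) ?_
    have h1 : γ * η ^ (n * (q - 1)) = 1 := by
      rw [← hn, ← pow_add]
      have : n + n * (q - 1) = q * n := by
        have := (Fact.out : q.Prime).pos
        cases q with
        | zero => omega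
        | succ q => rw [Nat.succ_sub_one, Nat.succ_mul, mul_comm q n, add_comm]
      rw [this, pow_mul, hηq, one_pow]
    rw [← QuotientGroup.mk_pow, ← QuotientGroup.mk_mul, QuotientGroup.eq_one_iff] at h1
    simpa using mem_subgroupOf.mp h1
  have hwq : w ^ q ∈ center G :=
    mem_subgroupOf.mp
      (TwoSizes.pow_mem_of_square hfix hfixZ hγ hη hcomm hnot (⟨w, hw, hwr⟩ : L))
  obtain ⟨k, hk⟩ := hwr
  exact hwZ (TwoSizes.mem_of_pow_mem_group hwq (by rw [hk]; exact one_mem _ : w ^ r ^ k ∈ center G)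
    (((Nat.coprime_primes Fact.out hrp).mpr (Ne.symm hrq)).pow_right k))

/-- The centraliser of a `q`-element whose class size is prime to `q` is the only one up to
conjugation. -/
theorem Trans.exists_conj_eq {q : ℕ} [Fact q.Prime] (hq : q ∈ S) {u₀ u : G} (hu₀ : PW q u₀)
    (hu₀Z : u₀ ∉ center G) (hnd : ¬ q ∣ ind u₀) (hu : PW q u) (huZ : u ∉ center G) :
    ∃ h : G, Cn (h * u * h⁻¹) = Cn u₀ := by
  obtain ⟨h, hh⟩ := exists_conj_mem (H := Cn u₀) (r := q) (by
    have := fact_ind u₀ q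
    have := Nat.factorization_eq_zero_of_not_dvd hnd
    omega) hu
  exact ⟨h, hT q hq q hq u₀ _ hu₀ (PW_conj h hu) hu₀Z (conj_noncentral h huZ) hh⟩

/-- `q` divides the index of the centraliser in its normaliser. -/
theorem Trans.dvd_relIndex {q : ℕ} [hqF : Fact q.Prime] (hq : q ∈ S) {u : G} (hu : PW q u)
    (huZ : u ∉ center G) (hdvd : q ∣ ind u) :
    q ∣ (Cn u).relIndex (normalizer (Cn u : Set G)) := by
  set C := Cn u with hC
  obtain ⟨T, hT'⟩ := (show IsPGroup q (zpowers (⟨u, mem_Cn_self u⟩ : C)) from by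
    obtain ⟨k, hk⟩ := hu
    exact PW.isPGroup_zpowers ⟨k, Subtype.ext (by simpa using hk)⟩).exists_le_sylow
  set T₀ := (T : Subgroup C).map C.subtype with hT₀
  have huT : u ∈ T₀ := ⟨_, hT' (mem_zpowers _), rfl⟩
  have hTC : T₀ ≤ C := map_subtype_le _
  have hNN : normalizer (T₀ : Set G) ≤ normalizer (C : Set G) := by
    intro g hg
    have h1 : g * u * g⁻¹ ∈ T₀ := (mem_normalizer_iff.mp hg u).mp huT
    have h2 := hT q hq q hq u (g * u * g⁻¹) hu (PW_conj g hu) huZ (conj_noncentral g huZ)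
      (hTC h1)
    rw [mem_normalizer_iff_map_conj_eq]
    rw [Cn_conj] at h2
    exact h2
  have hcard : Nat.card T₀ = q ^ (Nat.card C).factorization q := by
    rw [hT₀, card_map_of_injective (subtype_injective _), T.card_eq_multiplicity]
  have hd : q ∣ T₀.relIndex (normalizer (T₀ : Set G)) := by
    have h1 : q ^ ((Nat.card C).factorization q + 1) ∣ Nat.card G := by
      rw [← C.index_mul_card, pow_succ, mul_comm]
      exact mul_dvd_mul hdvd (Nat.ordProj_dvd _ _)
    have := Sylow.prime_dvd_card_quotient_normalizer h1 hcard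
    rwa [relIndex, index_eq_card]
  have h3 : q ∣ C.relIndex (normalizer (C : Set G)) * T₀.relIndex C := by
    rw [mul_comm, relIndex_mul_relIndex _ _ _ hTC le_normalizer]
    rw [← relIndex_mul_relIndex _ _ _ le_normalizer hNN]
    exact hd.mul_right _
  refine ((Nat.Prime.dvd_mul hqF.out).mp h3).resolve_right fun h4 => T.not_dvd_index ?_
  rwa [relIndex, hT₀, subgroupOf, comap_map_eq_self_of_injective (subtype_injective _)] at h4

/-- The centralisers of noncentral `q`-elements form at most `q + 1` conjugacy classes. -/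
theorem Trans.exists_list {q : ℕ} [hqF : Fact q.Prime] (hq : q ∈ S)
    (hNC : TwoSizes.NC q G)
    (hdvd : ∀ u : G, PW q u → u ∉ center G → q ∣ ind u)
    (hmix : ∀ u : G, PW q u → u ∉ center G →
      ∃ r, r.Prime ∧ r ≠ q ∧ r ∈ S ∧ ∃ w ∈ Cn u, PW r w ∧ w ∉ center G) :
    ∃ f : Fin (q + 1) → G, (∀ i, PW q (f i) ∧ f i ∉ center G) ∧
      ∀ u : G, PW q u → u ∉ center G → ∃ i, ∃ h : G, Cn (h * u * h⁻¹) = Cn (f i) := by
  classical
  obtain ⟨Q⟩ : Nonempty (Sylow q G) := inferInstance
  obtain ⟨x, hxQ, hxZ, hxq, hQx⟩ := TwoSizes.exists_second_center hNC Q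
  have hQPW : ∀ a ∈ (Q : Subgroup G), PW q a := fun a ha => PW.of_isPGroup Q.2 ha
  set A := Cn x with hA
  have hx := hQPW x hxQ
  obtain ⟨r, hr, hrq, hrS, w, hw, hwr, hwZ⟩ := hmix x hx hxZ
  have hnA : ∀ g ∈ (Q : Subgroup G), g ∈ normalizer (A : Set G) := by
    intro g hg
    rw [mem_normalizer_iff_map_conj_eq]
    show (Cn x).map (MulAut.conj g).toMonoidHom = Cn x
    rw [← Cn_conj]
    conv_lhs => rw [show g * x * g⁻¹ = g * x * g⁻¹ * x⁻¹ * x from (inv_mul_cancel_right _ _).symm]
    exact Cn_mul_center (hQx g hg)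
  have hconj : ∀ g ∈ (Q : Subgroup G), ∃ z ∈ center G, g * x = z * x * g ∧ z ^ q = 1 := by
    intro g hg
    refine ⟨g * x * g⁻¹ * x⁻¹, hQx g hg, by simp, ?_⟩
    set z := g * x * g⁻¹ * x⁻¹ with hz
    have h1 : g * x * g⁻¹ = z * x := by simp [hz]
    have h2 : (g * x * g⁻¹) ^ q = x ^ q := by
      rw [conj_pow, mem_center_iff.mp hxq g, mul_inv_cancel_right]
    rw [h1, ((show Commute x z from mem_center_iff.mp (hQx g hg) x).symm).mul_pow] at h2
    exact mul_eq_right.mp h2
  have hpowA : ∀ g ∈ (Q : Subgroup G), g ^ q ∈ A := by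
    intro g hg
    obtain ⟨z, hz, hgx, hzq⟩ := hconj g hg
    have key : ∀ i : ℕ, g ^ i * x = z ^ i * x * g ^ i := by
      intro i
      induction i with
      | zero => simp
      | succ i ih =>
        have hzi : g * z ^ i = z ^ i * g := mem_center_iff.mp (pow_mem hz i) g
        calc g ^ (i + 1) * x = g * (g ^ i * x) := by rw [pow_succ']; group
          _ = g * z ^ i * x * g ^ i := by rw [ih]; group
          _ = z ^ i * (g * x) * g ^ i := by rw [hzi]; group
          _ = z ^ i * (z * x * g) * g ^ i := by rw [hgx]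
          _ = z ^ (i + 1) * x * g ^ (i + 1) := by rw [pow_succ, pow_succ']; group
    rw [mem_Cn, commute_iff_eq, key q, hzq, one_mul]
  have hcommA : ∀ g ∈ (Q : Subgroup G), ∀ h ∈ (Q : Subgroup G), g * h * g⁻¹ * h⁻¹ ∈ A := by
    intro g hg h hh
    obtain ⟨a, ha, hga, -⟩ := hconj g hg
    obtain ⟨b, hb, hhb, -⟩ := hconj h hh
    have e1 : g * h * x = a * b * x * (g * h) := by
      calc g * h * x = g * (h * x) := mul_assoc _ _ _
        _ = g * b * x * h := by rw [hhb]; group
        _ = b * (g * x) * h := by rw [mem_center_iff.mp hb g]; group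
        _ = b * a * x * (g * h) := by rw [hga]; group
        _ = _ := by rw [mem_center_iff.mp ha b]
    have e2 : h * g * x = a * b * x * (h * g) := by
      calc h * g * x = h * (g * x) := mul_assoc _ _ _
        _ = h * a * x * g := by rw [hga]; group
        _ = a * (h * x) * g := by rw [mem_center_iff.mp ha h]; group
        _ = _ := by rw [hhb]; group
    rw [mem_Cn, commute_iff_eq]
    have e3 : (h * g)⁻¹ * (a * b * x) = x * (h * g)⁻¹ := by
      rw [inv_mul_eq_iff_eq_mul, ← mul_assoc, e2, mul_inv_cancel_right]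
    calc g * h * g⁻¹ * h⁻¹ * x = g * h * ((h * g)⁻¹ * (a * b * x)) * (a * b)⁻¹ * ((a * b) * x⁻¹ * (a * b)⁻¹ * x) := by group
      _ = g * h * x * (h * g)⁻¹ * (a * b)⁻¹ := by
          have hc : ∀ y : G, y * (a * b) = (a * b) * y := mem_center_iff.mp (mul_mem ha hb)
          rw [e3, ← hc x⁻¹]; group
      _ = a * b * x * (g * h) * (h * g)⁻¹ * (a * b)⁻¹ := by rw [e1]
      _ = (a * b) * (x * (g * h * g⁻¹ * h⁻¹)) * (a * b)⁻¹ := by group
      _ = x * (g * h * g⁻¹ * h⁻¹) := by
          rw [← mem_center_iff.mp (mul_mem ha hb), mul_inv_cancel_right]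
  obtain ⟨y, hyQ, hyA⟩ : ∃ y ∈ (Q : Subgroup G), y ∉ A := by
    by_contra! hall
    exact Q.not_dvd_index ((hdvd x hx hxZ).trans (index_dvd_of_le fun a ha => hall a ha))
  have houtZ : ∀ g ∈ (Q : Subgroup G), g ∉ A → g ∉ center G := fun g _ hgA hgZ =>
    hgA (center_le_Cn x hgZ)
  have heq : ∀ a ∈ (Q : Subgroup G), a ∈ A → a ∉ center G → Cn a = A := fun a ha haA haZ =>
    hT q hq q hq x a hx (hQPW a ha) hxZ haZ haA
  have hpowZ : ∀ g ∈ (Q : Subgroup G), g ∉ A → g ^ q ∈ center G := by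
    intro g hg hgA
    by_contra hgZ
    refine hgA ?_
    rw [← heq _ (pow_mem hg q) (hpowA g hg) hgZ, mem_Cn]
    exact Commute.self_pow g q
  have hy := hQPW y hyQ
  have hyZ := houtZ y hyQ hyA
  set D : Subgroup G := (Q : Subgroup G) ⊓ A with hD
  have hDc : ∀ a ∈ D, ∀ b ∈ D, Commute a b := fun a ha b hb =>
    hT.commute hq hq hx hxZ (hQPW b hb.1) hb.2 ha.2
  have hDy : ∀ a ∈ D, a * y * a⁻¹ * y⁻¹ ∈ D := by
    intro a ha
    refine Subgroup.mem_inf.mpr
      ⟨mul_mem (mul_mem (mul_mem ha.1 hyQ) (inv_mem (show a ∈ (Q : Subgroup G) from ha.1))) (inv_mem hyQ), ?_⟩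
    rw [show a * y * a⁻¹ * y⁻¹ = a * (y * a⁻¹ * y⁻¹) by group]
    exact mul_mem ha.2 ((mem_normalizer_iff.mp (hnA y hyQ) _).mp (inv_mem (show a ∈ A from ha.2)))
  set ZD : Subgroup D := (center G).subgroupOf D
  haveI : ZD.Normal := inferInstance
  let ψ : D →* D ⧸ ZD :=
    { toFun := fun a => QuotientGroup.mk ⟨_, hDy a a.2⟩
      map_one' := by
        rw [show (⟨((1 : D) : G) * y * ((1 : D) : G)⁻¹ * y⁻¹, hDy _ (one_mem D)⟩ : D) = 1 from
          Subtype.ext (by simp)]
        rfl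
      map_mul' := fun a b => by
        rw [← QuotientGroup.mk_mul]
        congr 1
        apply Subtype.ext
        show (a : G) * b * y * ((a : G) * b)⁻¹ * y⁻¹ =
          (a : G) * y * (a : G)⁻¹ * y⁻¹ * ((b : G) * y * (b : G)⁻¹ * y⁻¹)
        have h1 := hDc a a.2 _ (hDy b b.2)
        have h2 := hDc _ (hDy a a.2) _ (hDy b b.2)
        calc (a : G) * b * y * ((a : G) * b)⁻¹ * y⁻¹
            = (a : G) * ((b : G) * y * (b : G)⁻¹ * y⁻¹) * (y * (a : G)⁻¹ * y⁻¹) := by group
          _ = ((b : G) * y * (b : G)⁻¹ * y⁻¹) * ((a : G) * y * (a : G)⁻¹ * y⁻¹) := by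
              rw [h1.eq]; group
          _ = _ := h2.eq.symm }
  have hmem : ∀ a : D, a ∈ ψ.ker ↔ (a : G) * y * (a : G)⁻¹ * y⁻¹ ∈ center G := fun a =>
    MonoidHom.mem_ker.trans ((QuotientGroup.eq_one_iff _).trans mem_subgroupOf)
  obtain ⟨s, hs, hsq, hsS, v, hv, hvs, hvZ⟩ := hmix y hy hyZ
  have hker : Nat.card ψ.ker ≤ q * Nat.card ZD := by
    by_cases hc : ∃ c : ψ.ker, ((c : D) : G) ∉ center G
    · obtain ⟨c₀, hc₀⟩ := hc
      have facts : ∀ c : ψ.ker, ((c : D) : G) ∉ center G →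
          ((c : D) : G) ∈ normalizer (Cn y : Set G) ∧ ((c : D) : G) ∉ Cn y ∧
            ((c : D) : G) ^ q ∈ center G := by
        intro c hcZ
        have hz := (hmem c).mp c.2
        set a := ((c : D) : G) with ha
        have haD : a ∈ D := c.1.2
        refine ⟨?_, fun haB => hyA ?_, ?_⟩
        · rw [mem_normalizer_iff_map_conj_eq]
          show (Cn y).map (MulAut.conj a).toMonoidHom = Cn y
          rw [← Cn_conj, show a * y * a⁻¹ = a * y * a⁻¹ * y⁻¹ * y from
            (inv_mul_cancel_right _ _).symm]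
          exact Cn_mul_center hz
        · rw [← heq a haD.1 haD.2 hcZ]
          exact mem_Cn.mpr (mem_Cn.mp haB).symm
        · by_contra hqZ
          refine hyA ?_
          rw [← heq _ (pow_mem haD.1 q) (pow_mem haD.2 q) hqZ, mem_Cn]
          set z := a * y * a⁻¹ * y⁻¹ with hz'
          have hzy : a * y = z * y * a := by simp [hz']
          have hzq : z ^ q = 1 := by
            have h1 : a * y * a⁻¹ = z * y := by simp [hz']
            have h2 : (a * y * a⁻¹) ^ q = y ^ q := by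
              rw [conj_pow, mem_center_iff.mp (hpowZ y hyQ hyA) a, mul_inv_cancel_right]
            rw [h1, ((show Commute y z from mem_center_iff.mp hz y).symm).mul_pow] at h2
            exact mul_eq_right.mp h2
          have key : ∀ i : ℕ, a ^ i * y = z ^ i * y * a ^ i := by
            intro i
            induction i with
            | zero => simp
            | succ i ih =>
              have hzi : a * z ^ i = z ^ i * a := mem_center_iff.mp (pow_mem hz i) a
              calc a ^ (i + 1) * y = a * (a ^ i * y) := by rw [pow_succ']; group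
                _ = a * z ^ i * y * a ^ i := by rw [ih]; group
                _ = z ^ i * (a * y) * a ^ i := by rw [hzi]; group
                _ = z ^ i * (z * y * a) * a ^ i := by rw [hzy]
                _ = z ^ (i + 1) * y * a ^ (i + 1) := by rw [pow_succ, pow_succ']; group
          rw [commute_iff_eq, key q, hzq, one_mul]
      have hcov : ∀ c : ψ.ker, ∃ i : Fin q, ((c : D) : G) * ((c₀ : D) : G) ^ (i : ℕ) ∈ center G := by
        intro c
        by_cases hcZ : ((c : D) : G) ∈ center G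
        · exact ⟨⟨0, hqF.out.pos⟩, by simpa using hcZ⟩
        obtain ⟨hn, hnB, hcq⟩ := facts c hcZ
        obtain ⟨hn₀, hnB₀, hcq₀⟩ := facts c₀ hc₀
        obtain ⟨i, hi⟩ := hT.exists_mul_pow_mem hq hsS hs hsq hy hyZ hv hvs hvZ hn hn₀
          (center_le_Cn y hcq) (center_le_Cn y hcq₀) hnB₀
          (by rw [(hDc _ c.1.2 _ c₀.1.2).eq, mul_inv_cancel_right, mul_inv_cancel]
              exact one_mem _)
        have hm : ((c : D) : G) * ((c₀ : D) : G) ^ i ∈ D := mul_mem c.1.2 (pow_mem c₀.1.2 i)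
        have hz : ((c : D) : G) * ((c₀ : D) : G) ^ i ∈ center G := by
          by_contra hne
          refine hyA ?_
          rw [← heq _ hm.1 hm.2 hne]
          exact mem_Cn.mpr (mem_Cn.mp hi).symm
        refine ⟨⟨i % q, Nat.mod_lt _ hqF.out.pos⟩, ?_⟩
        have e : ((c₀ : D) : G) ^ i =
            ((c₀ : D) : G) ^ (i % q) * (((c₀ : D) : G) ^ q) ^ (i / q) := by
          rw [← pow_mul, ← pow_add, Nat.mod_add_div]
        rw [e, ← mul_assoc] at hz
        have := mul_mem hz (inv_mem (pow_mem hcq₀ (i / q)))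
        rwa [mul_inv_cancel_right] at this
      choose i hi using hcov
      calc Nat.card ψ.ker ≤ Nat.card (Fin q × ZD) := by
            refine Nat.card_le_card_of_injective
              (fun c => (i c, ⟨(c : D) * (c₀ : D) ^ (i c : ℕ), mem_subgroupOf.mpr (by simpa using hi c)⟩)) ?_
            intro c c' h
            simp only [Prod.mk.injEq, Subtype.mk.injEq] at h
            rw [h.1] at h
            exact Subtype.ext (mul_right_cancel h.2)
        _ = q * Nat.card ZD := by rw [Nat.card_prod, Nat.card_fin]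
    · push Not at hc
      refine le_trans ?_ (Nat.le_mul_of_pos_left _ hqF.out.pos)
      exact Nat.card_le_card_of_injective (fun c => (⟨c.1, mem_subgroupOf.mpr (hc c)⟩ : ZD))
        fun c c' h => Subtype.ext (congrArg (Subtype.val : ZD → D) h)
  have hidx : ψ.range.index ≤ q := by
    have h1 := ψ.range.index_mul_card
    have h2 := ψ.ker.index_mul_card
    rw [Subgroup.index_ker] at h2
    have h3 := Subgroup.card_eq_card_quotient_mul_card_subgroup ZD
    have h4 : 0 < Nat.card ψ.range := Nat.card_pos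
    have h5 : 0 < Nat.card ZD := Nat.card_pos
    rw [← h1] at h3
    have h6 : ψ.range.index * Nat.card ZD = Nat.card ψ.ker := by
      refine Nat.eq_of_mul_eq_mul_left h4 ?_
      rw [h2, h3]; ring
    exact Nat.le_of_mul_le_mul_right (h6 ▸ hker) h5
  obtain ⟨e⟩ : Nonempty ((D ⧸ ZD) ⧸ ψ.range ↪ Fin q) := by
    haveI := Fintype.ofFinite ((D ⧸ ZD) ⧸ ψ.range)
    refine Function.Embedding.nonempty_of_card_le ?_
    rw [Fintype.card_fin, ← Nat.card_eq_fintype_card, ← index_eq_card]
    exact hidx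
  let rep : Fin q → D := fun j => ((Function.invFun e j).out).out
  let f : Fin (q + 1) → G := Fin.cons x (fun j => (rep j : G) * y)
  have hfQ : ∀ j, (rep j : G) * y ∈ (Q : Subgroup G) ∧ (rep j : G) * y ∉ A := fun j =>
    ⟨mul_mem (rep j).2.1 hyQ, fun h => hyA (by
      have := mul_mem (inv_mem (show (rep j : G) ∈ A from (rep j).2.2)) h
      rwa [inv_mul_cancel_left] at this)⟩
  refine ⟨f, fun i => Fin.cases ⟨hx, hxZ⟩ (fun j => ⟨hQPW _ (hfQ j).1,
    houtZ _ (hfQ j).1 (hfQ j).2⟩) i, ?_⟩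
  have hQcase : ∀ u ∈ (Q : Subgroup G), u ∉ center G → ∃ i, ∃ h : G, Cn (h * u * h⁻¹) = Cn (f i) := by
    intro u hu huZ
    by_cases huA : u ∈ A
    · exact ⟨0, 1, by simpa [f] using heq u hu huA huZ⟩
    obtain ⟨i, hi⟩ := hT.exists_mul_pow_mem hq hrS hr hrq hx hxZ hw hwr hwZ (hnA y hyQ) (hnA u hu)
      (hpowA y hyQ) (hpowA u hu) huA (hcommA y hyQ u hu)
    set w' := (u ^ i)⁻¹ with hw'
    have hw'Q : w' ∈ (Q : Subgroup G) := inv_mem (pow_mem hu i)
    have hw'A : w' ∉ A := by
      intro h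
      refine hyA ?_
      have := mul_mem hi h
      rwa [hw', mul_inv_cancel_right] at this
    have hw'u : Cn w' = Cn u := by
      refine hT q hq q hq u w' (hQPW u hu) (hQPW w' hw'Q) huZ (houtZ _ hw'Q hw'A) ?_
      exact mem_Cn.mpr ((Commute.refl u).pow_left i).inv_left
    have hd : w' * y⁻¹ ∈ D := by
      refine Subgroup.mem_inf.mpr ⟨mul_mem hw'Q (inv_mem hyQ), ?_⟩
      rw [show w' * y⁻¹ = (y * u ^ i)⁻¹ by rw [hw', mul_inv_rev]]
      exact inv_mem hi
    set d : D := ⟨w' * y⁻¹, hd⟩ with hdd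
    set κ : (D ⧸ ZD) ⧸ ψ.range := QuotientGroup.mk (QuotientGroup.mk d)
    obtain ⟨t, ht⟩ := QuotientGroup.mk_out_eq_mul ψ.range (QuotientGroup.mk d : D ⧸ ZD)
    obtain ⟨a, ha⟩ := MonoidHom.mem_range.mp (inv_mem t.2)
    have hrep : (QuotientGroup.mk (rep (e κ)) : D ⧸ ZD) * ψ a = QuotientGroup.mk d := by
      show (QuotientGroup.mk ((Function.invFun e (e κ)).out).out : D ⧸ ZD) * ψ a = _
      rw [Function.leftInverse_invFun e.injective κ, QuotientGroup.out_eq', ha, ht,
        mul_inv_cancel_right]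
    have hz := (QuotientGroup.eq.mp hrep : _ ∈ ZD)
    rw [mem_subgroupOf] at hz
    refine ⟨(e κ).succ, (a : G)⁻¹, ?_⟩
    have hra : (a : G) * ((rep (e κ) : G) * y) * (a : G)⁻¹ =
        (rep (e κ) : G) * ((a : G) * y * (a : G)⁻¹ * y⁻¹) * y := by
      rw [show (a : G) * ((rep (e κ) : G) * y) * (a : G)⁻¹ =
        ((a : G) * (rep (e κ) : G)) * (y * (a : G)⁻¹) by group, (hDc _ a.2 _ (rep (e κ)).2).eq]
      group
    set b := (rep (e κ) : G) * ((a : G) * y * (a : G)⁻¹ * y⁻¹)
    have hz' : b⁻¹ * (w' * y⁻¹) ∈ center G := by simpa [hdd, b, ψ, mul_assoc] using hz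
    have h7 : Cn w' = Cn ((a : G) * ((rep (e κ) : G) * y) * (a : G)⁻¹) := by
      rw [hra, ← Cn_mul_center (x := b * y) hz']
      congr 1
      rw [← mul_assoc, ← mem_center_iff.mp hz' b, mul_inv_cancel_left, inv_mul_cancel_right]
    have : Cn ((a : G)⁻¹ * u * (a : G)⁻¹⁻¹) = Cn ((rep (e κ) : G) * y) := by
      rw [Cn_conj, ← hw'u, h7, ← Cn_conj]
      congr 1
      group
    simpa [f] using this
  intro u hu huZ
  obtain ⟨R, hR⟩ := hu.isPGroup_zpowers.exists_le_sylow
  obtain ⟨g, hg⟩ := MulAction.exists_smul_eq G R Q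
  have hgu : g * u * g⁻¹ ∈ (Q : Subgroup G) := by
    rw [← hg, Sylow.coe_subgroup_smul]
    exact ⟨u, hR (mem_zpowers u), rfl⟩
  obtain ⟨i, h, hh⟩ := hQcase _ hgu (conj_noncentral g huZ)
  refine ⟨i, h * g, ?_⟩
  rw [← hh]
  congr 1
  group

end Cfsg.Lib.ClassSize3
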